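import Groth.Agent.Lib.HomBC22.Derived
import Groth.Agent.Lib.DualRing.SchemePull
import Groth.Agent.Lib.OX.RpushQCoh
import Groth.Prelude.Def_Dual3
import Mathlib.Algebra.Homology.DerivedCategory.Linear

/-! # Derived direct and inverse images and scalars -/

set_option autoImplicit false
set_option maxHeartbeats 1000000
set_option linter.style.haveILetI false
set_option backward.isDefEq.respectTransparency false
universe u v v' w w' t

open CategoryTheory CategoryTheory.Limits AlgebraicGeometry Opposite DerivedCategory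

attribute [local instance] HasDerivedCategory.standard

noncomputable section

namespace GrothLib.HomBC22

open GrothLib.OX

section General

variable {A : Type u} [CommRing A] {B : Type u} [CommRing B] [Algebra A B]
variable {C : Type w} [Category.{v} C] [Preadditive C] [Linear A C]
variable {D : Type w'} [Category.{v'} D] [Preadditive D] [Linear B D]

/-- Scalars pass along natural isomorphisms. -/
theorem map_smul_of_natIso {F G : C ⥤ D} (e : F ≅ G) (a : A) (b : B)
    (hG : ∀ {X Y : C} (f : X ⟶ Y), G.map (a • f) = b • G.map f) {X Y : C} (f : X ⟶ Y) :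
    F.map (a • f) = b • F.map f := by
  rw [← cancel_mono (e.hom.app Y), e.hom.naturality, hG, Linear.comp_smul, ← e.hom.naturality, Linear.smul_comp]

/-- Base change of morphisms passes along natural isomorphisms. -/
theorem isBCHom_natIso {F G : C ⥤ D} [F.Additive] [G.Additive] (e : F ≅ G)
    (hF : ∀ {X Y : C} (a : A) (f : X ⟶ Y), F.map (a • f) = algebraMap A B a • F.map f)
    (hG : ∀ {X Y : C} (a : A) (f : X ⟶ Y), G.map (a • f) = algebraMap A B a • G.map f)
    {X Y : C} (h : IsBCHom G hG X Y) : IsBCHom F hF X Y :=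
  (IsBC.transfer (g := semMap G hG X Y) (g₂ := semMap F hF X Y) LinearMap.id Function.bijective_id
    (Linear.homCongr B (e.app X).symm (e.app Y).symm).toLinearMap
    (Linear.homCongr B (e.app X).symm (e.app Y).symm).bijective
    (fun f => by simp [semMap_apply, Linear.homCongr])).1 h

end General

section KInj

variable {R : Type t} [Ring R] {𝒜 : Type w} [Category.{v} 𝒜] [Abelian 𝒜] [IsGrothendieckAbelian.{v} 𝒜]
  [Linear R 𝒜] [HasDerivedCategory.{w'} 𝒜]

/-- K-injective resolution carries scalars. -/
theorem res_map_smul (r : R) {K L : DerivedCategory 𝒜} (φ : K ⟶ L) :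
    (KInj.res 𝒜).map (r • φ) = r • (KInj.res 𝒜).map φ := by
  apply ((KInj.resAdj 𝒜).homEquiv _ _).symm.injective
  rw [Adjunction.homEquiv_counit, Adjunction.homEquiv_counit, (KInj.resAdj 𝒜).counit_naturality,
    Linear.comp_smul, ← (KInj.resAdj 𝒜).counit_naturality, ← Linear.smul_comp, ← Functor.map_smul]

end KInj

section Push

variable {R : Type u} [CommRing R] {X Y : Scheme.{u}} [X.Over (Spec (CommRingCat.of R))]
  [Y.Over (Spec (CommRingCat.of R))] (f : X ⟶ Y) [f.IsOver (Spec (CommRingCat.of R))]

theorem RR_map_smul (r : R) {K L : DCoh.D X} (φ : K ⟶ L) : (RR f).map (r • φ) = r • (RR f).map φ := by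
  show (DCoh.pushKh f).map ((KInj.res X.Modules).map (r • φ)) = _
  rw [res_map_smul]
  show DerivedCategory.Qh.map (((Scheme.Modules.pushforward f).mapHomotopyCategory (ComplexShape.up ℤ)).map
      (r • (KInj.res X.Modules).map φ)) = r • DerivedCategory.Qh.map
      (((Scheme.Modules.pushforward f).mapHomotopyCategory (ComplexShape.up ℤ)).map ((KInj.res X.Modules).map φ))
  generalize (KInj.res X.Modules).map φ = ψ
  obtain ⟨ψ₀, rfl⟩ := (HomotopyCategory.quotient X.Modules (ComplexShape.up ℤ)).map_surjective ψ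
  rw [← Functor.map_smul]
  show DerivedCategory.Qh.map ((HomotopyCategory.quotient _ _).map
      (((Scheme.Modules.pushforward f).mapHomologicalComplex (ComplexShape.up ℤ)).map (r • ψ₀))) = _
  rw [show ((Scheme.Modules.pushforward f).mapHomologicalComplex (ComplexShape.up ℤ)).map (r • ψ₀) =
      r • ((Scheme.Modules.pushforward f).mapHomologicalComplex (ComplexShape.up ℤ)).map ψ₀ from
    HomologicalComplex.hom_ext _ _ fun i => by
      change (Scheme.Modules.pushforward f).map (r • ψ₀.f i) = r • (Scheme.Modules.pushforward f).map (ψ₀.f i)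
      exact Functor.map_smul _ _ _,
    Functor.map_smul, Functor.map_smul]
  rfl

theorem Rpush_map_smul [DCoh.HasRpush f] (r : R) {K L : DCoh.D X} (φ : K ⟶ L) :
    (DCoh.Rpush f).map (r • φ) = r • (DCoh.Rpush f).map φ :=
  map_smul_of_natIso (rpushIsoRres f) r r (fun φ => RR_map_smul f r φ) φ

theorem RpushQ_map_smul [DCoh.HasRpush f] (hf : DCoh.RpushPreservesQCoh f) (r : R) {K L : DCoh.DQCoh X}
    (φ : K ⟶ L) : (DCoh.RpushQ f hf).map (r • φ) = r • (DCoh.RpushQ f hf).map φ :=
  ObjectProperty.hom_ext _ (Rpush_map_smul f r φ.hom)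

end Push

section Pull

variable {A B : Type u} [CommRing A] [CommRing B] [Algebra A B] {X X' : Scheme.{u}}
variable [X.Over (Spec (CommRingCat.of A))] [X'.Over (Spec (CommRingCat.of B))]
variable (g : X' ⟶ X)
  (H : IsPullback g (X' ↘ Spec (CommRingCat.of B)) (X ↘ Spec (CommRingCat.of A))
    (Spec.map (CommRingCat.ofHom (algebraMap A B))))

include H in
theorem flat_bc [Module.Flat A B] : Flat g := by
  haveI : Flat (Spec.map (CommRingCat.ofHom (algebraMap A B))) :=
    (HasRingHomProperty.Spec_iff (P := @Flat)).2 (RingHom.flat_algebraMap_iff.2 ‹_›)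
  exact MorphismProperty.of_isPullback (P := @Flat) H.flip this

variable [DCoh.HasLpull g]

include H in
theorem Lpull_map_smul [Flat g] {K L : DCoh.D X} (a : A) (χ : K ⟶ L) :
    (DCoh.Lpull g).map (a • χ) = algebraMap A B a • (DCoh.Lpull g).map χ := by
  haveI := OX.additive_pullback g
  haveI := preservesFiniteLimits_pullback_of_flat g
  obtain ⟨l⟩ := DualRing.nonempty_lpull_flat g
  exact map_smul_of_natIso l a _ (fun χ => pullD_map_smul g H a χ) χ

variable [Module.Flat A B] [Flat g]

variable (hg : Dual3.LpullPreservesQCoh g)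

include H in
theorem LpullQ_map_smul {K L : DCoh.DQCoh X} (a : A) (χ : K ⟶ L) :
    (Dual3.LpullQ g hg).map (a • χ) = algebraMap A B a • (Dual3.LpullQ g hg).map χ :=
  ObjectProperty.hom_ext _ (Lpull_map_smul g H a χ.hom)

/-- Morphisms of the full subcategory are morphisms. -/
def homLin {R : Type u} [CommRing R] {Z : Scheme.{u}} [Z.Over (Spec (CommRingCat.of R))] (K L : DCoh.DQCoh Z) :
    (K ⟶ L) →ₗ[R] (K.obj ⟶ L.obj) where
  toFun φ := φ.hom
  map_add' _ _ := rfl
  map_smul' _ _ := rfl

theorem homLin_bijective {R : Type u} [CommRing R] {Z : Scheme.{u}} [Z.Over (Spec (CommRingCat.of R))]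
    (K L : DCoh.DQCoh Z) : Function.Bijective (homLin (R := R) K L) :=
  ⟨fun _ _ h => ObjectProperty.hom_ext _ h, fun φ => ⟨ObjectProperty.homMk φ, rfl⟩⟩

include H in
theorem isBCHom_LpullQ_of_lpull [(DCoh.Lpull g).Additive] [(Dual3.LpullQ g hg).Additive] {P M : DCoh.DQCoh X}
    (h : IsBCHom (DCoh.Lpull g) (Lpull_map_smul g H) P.obj M.obj) :
    IsBCHom (Dual3.LpullQ g hg) (LpullQ_map_smul g H hg) P M :=
  (IsBC.transfer (g := semMap (Dual3.LpullQ g hg) (LpullQ_map_smul g H hg) P M) (homLin P M)
    (homLin_bijective P M) (homLin _ _) (homLin_bijective _ _) (fun _ => rfl)).2 h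

theorem additive_lpull : (DCoh.Lpull g).Additive := by
  haveI := OX.additive_pullback g
  haveI := preservesFiniteLimits_pullback_of_flat g
  obtain ⟨l⟩ := DualRing.nonempty_lpull_flat g
  exact Functor.additive_of_iso l.symm

include H in
/-- Maps out of perfect objects commute with flat base change, on `D_QCoh`. -/
theorem isBCHom_LpullQ [(Dual3.LpullQ g hg).Additive] [CompactSpace X] [QuasiSeparatedSpace X] {P M : DCoh.DQCoh X}
    (hP : DCoh.IsPerfect P.obj) : IsBCHom (Dual3.LpullQ g hg) (LpullQ_map_smul g H hg) P M := by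
  haveI := OX.additive_pullback g
  haveI := preservesFiniteLimits_pullback_of_flat g
  haveI := additive_lpull g
  obtain ⟨l⟩ := DualRing.nonempty_lpull_flat g
  exact isBCHom_LpullQ_of_lpull g H hg
    (isBCHom_natIso l _ (pullD_map_smul g H) (isBCHom_perfect g H hP M.property))

end Pull

end GrothLib.HomBC22
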