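import Groth.Agent.Lib.HomBC22.BCGlobal
import Groth.Agent.Lib.BaseChange22.Square
import Groth.Agent.Lib.RightAdj22.Shriek

/-! # Upper shriek and flat base change -/

set_option autoImplicit false
set_option maxHeartbeats 1000000
set_option linter.style.haveILetI false
set_option backward.isDefEq.respectTransparency false
universe u

open CategoryTheory CategoryTheory.Limits AlgebraicGeometry

attribute [local instance] HasDerivedCategory.standard

noncomputable section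

namespace GrothLib.HomBC22

open GrothLib.OX GrothLib.RightAdj22

theorem isGE_lpull {X' X : Scheme.{u}} (g : X' ⟶ X) [Flat g] [DCoh.HasLpull g] {M : DCoh.D X} (n : ℤ) [M.IsGE n] :
    ((DCoh.Lpull g).obj M).IsGE n := by
  haveI := OX.additive_pullback g
  haveI := preservesFiniteLimits_pullback_of_flat g
  obtain ⟨l⟩ := DualRing.nonempty_lpull_flat g
  exact (DerivedCategory.isGE_iff _ _).2 fun i hi =>
    ((Scheme.Modules.pullback g).map_isZero (DerivedCategory.isZero_of_isGE M n i hi)).of_iso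
      ((DerivedCategory.homologyFunctor _ i).mapIso (l.app M) ≪≫ (DerTrunc.homologyMapIso _ i).app M)

/-- **Upper shriek commutes with flat base change, bounded below.** -/
theorem nonempty_shriekC_bc {X Y X' Y' : Scheme.{u}} [AlgebraicGeometry.IsNoetherian Y]
    [AlgebraicGeometry.IsNoetherian Y'] {f : X ⟶ Y} {g : Y' ⟶ Y} {f' : X' ⟶ Y'} {g' : X' ⟶ X}
    (hsq : IsPullback g' f' f g) [Flat g] (c : DEt.Compactification f) (c' : DEt.Compactification f')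
    [DCoh.HasRpush c.fbar] [DCoh.HasRpush c'.fbar] (hc : DCoh.RpushPreservesQCoh c.fbar)
    (hc' : DCoh.RpushPreservesQCoh c'.fbar) {a : DCoh.DQCoh Y ⥤ DCoh.DQCoh c.Xbar}
    {a' : DCoh.DQCoh Y' ⥤ DCoh.DQCoh c'.Xbar} (adj : DCoh.RpushQ c.fbar hc ⊣ a)
    (adj' : DCoh.RpushQ c'.fbar hc' ⊣ a')
    [∀ (U V : Scheme.{u}) (j : U ⟶ V) [IsOpenImmersion j], PreservesFiniteLimits (Scheme.Modules.restrictFunctor j)]
    [DCoh.HasLpull g] [DCoh.HasLpull g'] (hLg : Dual3.LpullPreservesQCoh g) :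
    Nonempty (Dual3.bddι Y ⋙ Dual3.shriekC c a ⋙ DCoh.Lpull g' ≅
      Dual3.bddι Y ⋙ Dual3.LpullQ g hLg ⋙ Dual3.shriekC c' a') := by
  let Xb := pullback c.fbar g
  let g₁ : Xb ⟶ c.Xbar := pullback.fst _ _
  let f₁ : Xb ⟶ Y' := pullback.snd _ _
  have hX₁ : IsPullback g₁ f₁ c.fbar g := IsPullback.of_hasPullback _ _
  let j₁ : X' ⟶ Xb := pullback.lift (g' ≫ c.j) f' (by rw [Category.assoc, c.fac]; exact hsq.w)
  have hj₁f : j₁ ≫ f₁ = f' := pullback.lift_snd _ _ _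
  have hj₁g : j₁ ≫ g₁ = g' ≫ c.j := pullback.lift_fst _ _ _
  have hJ : IsPullback g' j₁ c.j g₁ := by
    have hbig : IsPullback g' (j₁ ≫ f₁) (c.j ≫ c.fbar) g := by
      rw [hj₁f, c.fac]
      exact hsq
    exact IsPullback.of_bot hbig hj₁g.symm hX₁
  haveI : IsOpenImmersion j₁ := MorphismProperty.of_isPullback hJ (inferInstance : IsOpenImmersion c.j)
  haveI : IsProper f₁ := MorphismProperty.of_isPullback hX₁ (inferInstance : IsProper c.fbar)
  haveI : Flat g₁ := MorphismProperty.of_isPullback (P := @Flat) hX₁.flip ‹Flat g›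
  haveI : Flat g' := MorphismProperty.of_isPullback (P := @Flat) hJ.flip ‹_›
  haveI := isNoetherian_of_proper c.fbar
  haveI := isNoetherian_of_proper f₁
  haveI := hasLpull g₁
  haveI : DCoh.HasRpush f₁ := KInj.hasRightDerivedFunctor _
  haveI : DCoh.HasRpush g₁ := KInj.hasRightDerivedFunctor _
  haveI : DCoh.HasRpush g := KInj.hasRightDerivedFunctor _
  haveI : QuasiCompact g := quasiCompact_of_compactSpace g
  haveI : QuasiSeparated g := QuasiSeparated.of_quasiSeparatedSpace g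
  haveI : QuasiCompact g₁ := quasiCompact_of_compactSpace g₁
  haveI : QuasiSeparated g₁ := QuasiSeparated.of_quasiSeparatedSpace g₁
  have hpres : ∀ {A B : Scheme.{u}} (k : A ⟶ B) [QuasiCompact k] [QuasiSeparated k] [DCoh.HasRpush k],
      DCoh.RpushPreservesQCoh k := fun k _ _ _ K hK i =>
    isQCoh_of_iso ((DerivedCategory.homologyFunctor _ i).mapIso ((rpushIsoRres k).app K)).symm (isQCohD_Rres k K hK i)
  have hf₁ : DCoh.RpushPreservesQCoh f₁ := hpres f₁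
  have hg₁ : DCoh.RpushPreservesQCoh g₁ := hpres g₁
  have hg : DCoh.RpushPreservesQCoh g := hpres g
  have hLg₁ : Dual3.LpullPreservesQCoh g₁ := fun _ hK => TorBC25.isQCohD_lpull g₁ hK
  obtain ⟨b⟩ := nonempty_lpullAdj g
  obtain ⟨b₁⟩ := nonempty_lpullAdj g₁
  let adj₁ : DCoh.RpushQ f₁ hf₁ ⊣ aQ f₁ := (aQAdj f₁).ofNatIsoLeft (rpushQIso f₁ hf₁).symm
  let adjg : Dual3.LpullQ g hLg ⊣ DCoh.RpushQ g hg := BaseChange22.adjQ hg b
  let adjg₁ : Dual3.LpullQ g₁ hLg₁ ⊣ DCoh.RpushQ g₁ hg₁ := BaseChange22.adjQ hg₁ b₁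
  have hbc := TorBC25.BC_of_torIndep hX₁ (BaseChange22.tor_of_flat (Or.inr ‹Flat g›))
  obtain ⟨e, he⟩ := BaseChange22.exists_sqQ_bc hc hf₁ hg hg₁ hX₁ hbc
  have hθ : ∀ E, IsIso (thMate e adjg adjg₁ E) := fun E => he _ _ adjg adjg₁ E
  have hξ : ∀ M : DCoh.DQCoh Y', IsIso (Dual3.xi adj adj₁ e M) := fun M =>
    BaseChange22.isIso_xi adj adj₁ e adjg adjg₁ hθ M
  have hiso : ∀ K : BQ Y, IsIso (Dual3.bcMap adj adj₁ e adjg adjg₁ K.obj (hξ _)) := fun K => by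
    obtain ⟨n, hn⟩ := K.property
    haveI := hn
    haveI hLK : ((Dual3.LpullQ g hLg).obj K.obj).obj.IsGE n := isGE_lpull (M := K.obj.obj) g n
    refine isIso_bcMap_global hX₁ adj adj₁ e adjg adjg₁ hθ hξ K.obj
      (fun U _ => isIso_resD_map_locUnit_of_isGE U adj K.obj n)
      (fun U' _ => isIso_resD_map_locUnit_of_isGE U' adj₁ _ n)
      (fun U _ U' _ => ?_) (Or.inr ⟨inferInstance, ⟨n, hn⟩, fun P hP => isCohD_Rpush_perfect c.fbar hP⟩)
    haveI : (locObj U K.obj).obj.IsGE n := by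
      haveI := KSix19.ProjPush.isGE_resD U.ι K.obj.obj n
      exact KSix19.ProjPush.isGE_RR U.ι ((resD U.ι).obj K.obj.obj) n
    haveI : ((Dual3.LpullQ g hLg).obj (locObj U K.obj)).obj.IsGE n := isGE_lpull (M := (locObj U K.obj).obj) g n
    exact isIso_resD_map_locUnit_of_isGE U' adj₁ _ n
  let i₂ : Dual3.bddι Y ⋙ a ⋙ Dual3.LpullQ g₁ hLg₁ ≅ Dual3.bddι Y ⋙ Dual3.LpullQ g hLg ⋙ aQ f₁ :=
    NatIso.ofComponents (fun K => @asIso _ _ _ _ _ (hiso K)) fun {K L} φ =>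
      (bcMap_naturality adj adj₁ e adjg adjg₁ hθ φ.hom (hξ _) (hξ _)).symm
  haveI := OX.additive_pullback g'
  haveI := preservesFiniteLimits_pullback_of_flat g'
  obtain ⟨l'⟩ := DualRing.nonempty_lpull_flat g'
  let i₁ : DCoh.Lpull g₁ ⋙ resD j₁ ≅ resD c.j ⋙ DCoh.Lpull g' :=
    gammaIso g₁ (b₁.ofNatIsoRight (rpushIsoRres g₁)) j₁ c.j g' hj₁g.symm ≪≫ Functor.isoWhiskerLeft _ l'.symm
  let c₁ : DEt.Compactification f' := ⟨Xb, j₁, f₁, inferInstance, inferInstance, hj₁f⟩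
  haveI : DCoh.HasRpush c₁.fbar := ‹DCoh.HasRpush f₁›
  let LB : BQ Y ⥤ BQ Y' := ObjectProperty.lift _ (Dual3.bddι Y ⋙ Dual3.LpullQ g hLg) fun K =>
    let ⟨n, hn⟩ := K.property
    ⟨n, haveI := hn; isGE_lpull (M := K.obj.obj) g n⟩
  obtain ⟨e₁⟩ := nonempty_shriekC c₁ hf₁ adj₁
  obtain ⟨e'⟩ := nonempty_shriekC c' hc' adj'
  obtain ⟨eI⟩ := nonempty_shB_indep j₁ f₁ c'.j c'.fbar (hj₁f.trans c'.fac.symm)
  let i₃ : Dual3.bddι Y' ⋙ Dual3.shriekC c₁ (aQ f₁) ≅ Dual3.bddι Y' ⋙ Dual3.shriekC c' a' :=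
    e₁ ≪≫ Functor.isoWhiskerRight eI _ ≪≫ e'.symm
  exact ⟨Functor.isoWhiskerLeft (Dual3.bddι Y ⋙ a ⋙ ObjectProperty.ι _) i₁.symm ≪≫
    Functor.isoWhiskerRight i₂ (ObjectProperty.ι _ ⋙ resD j₁) ≪≫ Functor.isoWhiskerLeft LB i₃⟩

end GrothLib.HomBC22
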