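import Groth.Agent.Lib.HomBC22.Linear
import Groth.Agent.Lib.RightAdj22.QFun
import Groth.Agent.Lib.RightAdj22.Support
import Groth.Agent.Lib.RightAdj22.Tri

/-! # The right adjoint of a direct image over an open of the base -/

set_option autoImplicit false
set_option maxHeartbeats 1000000
set_option linter.style.haveILetI false
set_option backward.isDefEq.respectTransparency false
universe u

open CategoryTheory CategoryTheory.Limits AlgebraicGeometry CategoryTheory.Pretriangulated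

attribute [local instance] HasDerivedCategory.standard

noncomputable section

namespace GrothLib.HomBC22

open GrothLib.OX GrothLib.RightAdj22

section Conj

universe v₁ v₂ v₃ v₄ w₁ w₂ w₃ w₄
variable {C : Type w₁} [Category.{v₁} C] {D₁ : Type w₂} [Category.{v₂} D₁] {D₂ : Type w₃} [Category.{v₃} D₂]
  {D : Type w₄} [Category.{v₄} D] {F₁ : C ⥤ D₁} {F₂ : D₁ ⥤ D} {G₁ : C ⥤ D₂} {G₂ : D₂ ⥤ D}
  (β : F₁ ⋙ F₂ ≅ G₁ ⋙ G₂)

theorem conj_map {X Y : C} (φ : X ⟶ Y) {Z : D₁} (t : F₁.obj Y ⟶ Z) :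
    β.hom.app X ≫ G₂.map (G₁.map φ) ≫ β.inv.app Y ≫ F₂.map t = F₂.map (F₁.map φ ≫ t) := by
  rw [← Category.assoc]
  erw [← β.hom.naturality φ]
  simp

theorem conj_comp {X Y Y' : C} (y : G₁.obj X ⟶ G₁.obj Y) (χ : Y ⟶ Y') {Z : D₁} (t : F₁.obj Y' ⟶ Z) :
    β.hom.app X ≫ G₂.map (y ≫ G₁.map χ) ≫ β.inv.app Y' ≫ F₂.map t =
      β.hom.app X ≫ G₂.map y ≫ β.inv.app Y ≫ F₂.map (F₁.map χ ≫ t) := by
  rw [G₂.map_comp, Category.assoc, F₂.map_comp]
  congr 2
  rw [← Category.assoc, ← Category.assoc]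
  congr 1
  exact β.inv.naturality χ

theorem conj_postcomp {X Y : C} (y : G₁.obj X ⟶ G₁.obj Y) {Z Z' : D₁} (t : F₁.obj Y ⟶ Z) (η : Z ⟶ Z') :
    (β.hom.app X ≫ G₂.map y ≫ β.inv.app Y ≫ F₂.map t) ≫ F₂.map η =
      β.hom.app X ≫ G₂.map y ≫ β.inv.app Y ≫ F₂.map (t ≫ η) := by
  simp

end Conj

variable {X Y U : Scheme.{u}}

/-- Restriction to `U` is bijective on maps into `K`. -/
def RestrBij (j : U ⟶ Y) [IsOpenImmersion j] (K : DCoh.D Y) : Prop :=
  ∀ M : DCoh.D Y, DCoh.IsQCohD M → Function.Bijective fun φ : M ⟶ K => (resD j).map φ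

theorem restrBij_RR (j : U ⟶ Y) [IsOpenImmersion j] (K₀ : DCoh.D U) : RestrBij j ((RR j).obj K₀) := fun M _ => by
  haveI := isIso_resDAdj_counit_app j K₀
  let c := asIso ((resDAdj j).counit.app K₀)
  have : (fun φ : M ⟶ (RR j).obj K₀ => (resD j).map φ) =
      c.homToEquiv.symm ∘ ((resDAdj j).homEquiv M K₀).symm := by
    funext φ
    simp [c]
    exact ((resDAdj j).homEquiv_counit _ _ _).symm
  rw [this]
  exact (Equiv.bijective _).comp (Equiv.bijective _)

theorem restrBij_of_isIso_unit (j : U ⟶ Y) [IsOpenImmersion j] (K : DCoh.D Y)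
    (h : IsIso ((resDAdj j).unit.app K)) : RestrBij j K := fun M _ => by
  haveI := h
  have : (fun φ : M ⟶ K => (resD j).map φ) = (((resDAdj j).homEquiv M _).symm) ∘
      (asIso ((resDAdj j).unit.app K)).homToEquiv := by
    funext φ
    show _ = ((resDAdj j).homEquiv M _).symm (φ ≫ (resDAdj j).unit.app K)
    rw [show φ ≫ (resDAdj j).unit.app K = (resDAdj j).homEquiv M _ ((resD j).map φ) from
      ((resDAdj j).unit.naturality φ).trans ((resDAdj j).homEquiv_unit _ _ _).symm, Equiv.symm_apply_apply]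
  rw [this]
  exact (Equiv.bijective _).comp (Equiv.bijective _)

variable (f : X ⟶ Y) [QuasiCompact f] [QuasiSeparated f] [DCoh.HasRpush f] (O : Y.Opens)

/-- Restriction of the direct image. -/
def betaR : DCoh.Rpush f ⋙ resD O.ι ≅ resD (f ⁻¹ᵁ O).ι ⋙ RR (f ∣_ O) :=
  Functor.isoWhiskerRight (rpushIsoRres f) (resD O.ι) ≪≫ resDRRBaseChange f O

variable {f} {hf : DCoh.RpushPreservesQCoh f} {a : DCoh.DQCoh Y ⥤ DCoh.DQCoh X} (adj : DCoh.RpushQ f hf ⊣ a)

/-- Transpose a morphism over the open with a given structure map. -/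
def transp {M E : DCoh.DQCoh X} {K : DCoh.DQCoh Y} (t : (DCoh.RpushQ f hf).obj E ⟶ K)
    (y : (resD (f ⁻¹ᵁ O).ι).obj M.obj ⟶ (resD (f ⁻¹ᵁ O).ι).obj E.obj) :
    (resD O.ι).obj ((DCoh.RpushQ f hf).obj M).obj ⟶ (resD O.ι).obj K.obj :=
  (betaR f O).hom.app M.obj ≫ (RR (f ∣_ O)).map y ≫ (betaR f O).inv.app E.obj ≫ (resD O.ι).map t.hom

theorem transp_map {M E : DCoh.DQCoh X} {K : DCoh.DQCoh Y} (t : (DCoh.RpushQ f hf).obj E ⟶ K) (φ : M ⟶ E) :
    transp O t ((resD (f ⁻¹ᵁ O).ι).map φ.hom) = (resD O.ι).map ((DCoh.RpushQ f hf).map φ ≫ t).hom :=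
  conj_map (betaR f O) φ.hom t.hom

theorem transp_comp {M E E' : DCoh.DQCoh X} {K : DCoh.DQCoh Y} (t : (DCoh.RpushQ f hf).obj E' ⟶ K) (χ : E ⟶ E')
    (y : (resD (f ⁻¹ᵁ O).ι).obj M.obj ⟶ (resD (f ⁻¹ᵁ O).ι).obj E.obj) :
    transp O t (y ≫ (resD (f ⁻¹ᵁ O).ι).map χ.hom) = transp O ((DCoh.RpushQ f hf).map χ ≫ t) y :=
  conj_comp (betaR f O) y χ.hom t.hom

theorem transp_postcomp {M E : DCoh.DQCoh X} {K K' : DCoh.DQCoh Y} (t : (DCoh.RpushQ f hf).obj E ⟶ K) (η : K ⟶ K')
    (y : (resD (f ⁻¹ᵁ O).ι).obj M.obj ⟶ (resD (f ⁻¹ᵁ O).ι).obj E.obj) :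
    transp O t y ≫ (resD O.ι).map η.hom = transp O (t ≫ η) y :=
  conj_postcomp (betaR f O) y t.hom η.hom

/-- The counit. -/
abbrev counitT (K : DCoh.DQCoh Y) : (DCoh.RpushQ f hf).obj (a.obj K) ⟶ K := adj.counit.app K

variable [QuasiCompact O.ι]

include adj in
/-- The right adjoint of a local object is local. -/
theorem restrBij_adjoint {K : DCoh.DQCoh Y} (hK : RestrBij O.ι K.obj) :
    RestrBij (f ⁻¹ᵁ O).ι (a.obj K).obj := by
  let i := (f ⁻¹ᵁ O).ι
  haveI : QuasiCompact i := MorphismProperty.of_isPullback (P := @QuasiCompact) (isPullback_morphismRestrict f O) ‹_›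
  let E := (a.obj K).obj
  have horth : ∀ N : DCoh.D X, DCoh.IsQCohD N → IsZero ((resD i).obj N) → ∀ φ : N ⟶ E, φ = 0 := fun N hN hz φ => by
    let N₀ : DCoh.DQCoh X := ⟨N, hN⟩
    have h0 : IsZero ((resD O.ι).obj ((DCoh.RpushQ f hf).obj N₀).obj) :=
      ((RR (f ∣_ O)).map_isZero hz).of_iso ((betaR f O).app N)
    have hs : ∀ ψ ψ' : (DCoh.RpushQ f hf).obj N₀ ⟶ K, ψ = ψ' := fun ψ ψ' =>
      ObjectProperty.hom_ext _ ((hK _ ((DCoh.RpushQ f hf).obj N₀).property).1 (h0.eq_of_src _ _))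
    let φ₀ : N₀ ⟶ a.obj K := ObjectProperty.homMk φ
    have e : φ₀ = adj.homEquiv _ _ ((adj.homEquiv _ _).symm 0) := by
      rw [← (adj.homEquiv _ _).apply_symm_apply φ₀]
      exact congrArg _ (hs _ _)
    rw [Equiv.apply_symm_apply] at e
    exact congrArg InducedCategory.Hom.hom e
  let η := (resDAdj i).unit.app E
  obtain ⟨C, c, d, hT⟩ := distinguished_cocone_triangle η
  have hCq : DCoh.IsQCohD C := isQCohD_obj₃ hT (a.obj K).property (isQCohD_Rres i _ (isQCohD_resD i (a.obj K).property))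
  have hC : IsZero ((resD i).obj C) :=
    (Triangle.isZero₃_iff_isIso₁ _ ((resD i).map_distinguished _ hT)).2 (isIso_resD_unit i E)
  have hd : d = 0 := by
    let e := (shiftFunctorCompIsoId (DCoh.D X) (-1 : ℤ) 1 (by omega)).app C
    obtain ⟨χ, hχ⟩ : ∃ χ : C⟦(-1 : ℤ)⟧ ⟶ E, χ⟦(1 : ℤ)⟧' = e.hom ≫ d :=
      (shiftFunctor (DCoh.D X) (1 : ℤ)).map_surjective _
    have : χ = 0 := horth _ (isQCohD_shift hCq (-1))
      (((shiftFunctor _ (-1 : ℤ)).map_isZero hC).of_iso (((resD i).commShiftIso (-1 : ℤ)).app C)) χ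
    rw [this, Functor.map_zero] at hχ
    rw [← cancel_epi e.hom, comp_zero]
    exact hχ.symm
  obtain ⟨s, hs⟩ := Triangle.coyoneda_exact₃ _ hT (𝟙 C) (by
    show 𝟙 C ≫ d = 0
    rw [hd, comp_zero])
  have hs0 : s = 0 := ((resDAdj i).homEquiv C _).symm.injective (hC.eq_of_src _ _)
  rw [hs0, zero_comp] at hs
  exact restrBij_of_isIso_unit i E ((Triangle.isZero₃_iff_isIso₁ _ hT).1 ((IsZero.iff_id_eq_zero C).2 hs))

/-- Transposition is bijective for local objects. -/
theorem bijective_transp_counit {K : DCoh.DQCoh Y} (hK : RestrBij O.ι K.obj) (M : DCoh.DQCoh X) :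
    Function.Bijective fun y : (resD (f ⁻¹ᵁ O).ι).obj M.obj ⟶ (resD (f ⁻¹ᵁ O).ι).obj (a.obj K).obj =>
      transp O (counitT adj K) y := by
  let rX := fun φ : M ⟶ a.obj K => (resD (f ⁻¹ᵁ O).ι).map φ.hom
  have hrX : Function.Bijective rX :=
    (restrBij_adjoint O adj hK M.obj M.property).comp
      ⟨fun _ _ h => ObjectProperty.hom_ext _ h, fun φ => ⟨ObjectProperty.homMk φ, rfl⟩⟩
  rw [← Function.Bijective.of_comp_iff _ hrX]
  have e : (fun y => transp O (counitT adj K) y) ∘ rX =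
      (fun ψ : (DCoh.RpushQ f hf).obj M ⟶ K => (resD O.ι).map ψ.hom) ∘ (adj.homEquiv M K).symm := by
    funext φ
    simp only [Function.comp_apply, rX, transp_map, Adjunction.homEquiv_counit]
  rw [e]
  exact ((hK _ ((DCoh.RpushQ f hf).obj M).property).comp
    ⟨fun _ _ h => ObjectProperty.hom_ext _ h, fun φ => ⟨ObjectProperty.homMk φ, rfl⟩⟩).comp (Equiv.bijective _)

/-- The localisation of an object of the base. -/
abbrev locObj (K : DCoh.DQCoh Y) : DCoh.DQCoh Y := (RRQ O.ι).obj ((resQ O.ι).obj K)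

/-- The localisation map. -/
abbrev locUnit (K : DCoh.DQCoh Y) : K ⟶ locObj O K := ObjectProperty.homMk ((resDAdj O.ι).unit.app K.obj)

theorem restrBij_locObj (K : DCoh.DQCoh Y) : RestrBij O.ι (locObj O K).obj := restrBij_RR O.ι _

theorem isIso_resD_locUnit (K : DCoh.DQCoh Y) : IsIso ((resD O.ι).map (locUnit O K).hom) := isIso_resD_unit O.ι K.obj

/-- Transposition is bijective when the right adjoint respects the localisation. -/
theorem bijective_transp_counit_of_isIso (K : DCoh.DQCoh Y)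
    (hsa : IsIso ((resD (f ⁻¹ᵁ O).ι).map (a.map (locUnit O K)).hom)) (M : DCoh.DQCoh X) :
    Function.Bijective fun y : (resD (f ⁻¹ᵁ O).ι).obj M.obj ⟶ (resD (f ⁻¹ᵁ O).ι).obj (a.obj K).obj =>
      transp O (counitT adj K) y := by
  haveI := hsa
  haveI := isIso_resD_locUnit O K
  rw [← Function.Bijective.of_comp_iff' (asIso ((resD O.ι).map (locUnit O K).hom)).homToEquiv.bijective]
  have e : (asIso ((resD O.ι).map (locUnit O K).hom)).homToEquiv ∘
      (fun y : (resD (f ⁻¹ᵁ O).ι).obj M.obj ⟶ (resD (f ⁻¹ᵁ O).ι).obj (a.obj K).obj =>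
        transp O (counitT adj K) y) =
      (fun y => transp O (counitT adj (locObj O K)) y) ∘
        (asIso ((resD (f ⁻¹ᵁ O).ι).map (a.map (locUnit O K)).hom)).homToEquiv := by
    funext y
    show transp O (counitT adj K) y ≫ (resD O.ι).map (locUnit O K).hom =
      transp O (counitT adj (locObj O K)) (y ≫ (resD (f ⁻¹ᵁ O).ι).map (a.map (locUnit O K)).hom)
    rw [transp_postcomp, transp_comp]
    congr 1
    exact (adj.counit.naturality (locUnit O K)).symm
  rw [e]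
  exact (bijective_transp_counit O adj (restrBij_locObj O K) M).comp (Equiv.bijective _)

include adj in
/-- Localisation is respected when sums are. -/
theorem isIso_resD_map_locUnit [CompactSpace X] [QuasiSeparatedSpace X] [CompactSpace Y] [QuasiSeparatedSpace Y]
    (hcop : ∀ J : Type u, PreservesColimitsOfShape (Discrete J) a) (K : DCoh.DQCoh Y) :
    IsIso ((resD (f ⁻¹ᵁ O).ι).map (a.map (locUnit O K)).hom) := by
  obtain ⟨C, g, d, hT⟩ := distinguished_cocone_triangle (locUnit O K)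
  have hT' := (DCoh.IsQCohD (X := Y)).ι.map_distinguished _ hT
  haveI := isIso_resD_locUnit O K
  have hC : IsZero ((resD O.ι).obj C.obj) :=
    (Triangle.isZero₃_iff_isIso₁ _ ((resD O.ι).map_distinguished _ hT')).2 (isIso_resD_locUnit O K)
  obtain ⟨d', hd'⟩ := exists_map_triangle f hf adj hT
  refine (Triangle.isZero₃_iff_isIso₁ _ ((resD _).map_distinguished _ hd')).1 ?_
  refine (isZero_resD_iff_support _ _).2 fun q => support_subset_of_isZero_restrict _
    (isZero_HD_restrict_adjoint f hf adj hcop O C (fun i => ?_) q)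
  exact ((DerivedCategory.homologyFunctor _ i).map_isZero hC).of_iso (HDResIso O.ι C.obj i).symm

include adj in
/-- Bounded below localisations are respected over a Noetherian base. -/
theorem isIso_resD_map_locUnit_of_isGE [IsNoetherian Y] [IsProper f] (K : DCoh.DQCoh Y) (c : ℤ) [K.obj.IsGE c] :
    IsIso ((resD (f ⁻¹ᵁ O).ι).map (a.map (locUnit O K)).hom) := by
  obtain ⟨C, g, d, hT⟩ := distinguished_cocone_triangle (locUnit O K)
  have hT' := (DCoh.IsQCohD (X := Y)).ι.map_distinguished _ hT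
  have hC : IsZero ((resD O.ι).obj C.obj) :=
    (Triangle.isZero₃_iff_isIso₁ _ ((resD O.ι).map_distinguished _ hT')).2 (isIso_resD_locUnit O K)
  haveI hl : (locObj O K).obj.IsGE c := by
    haveI := KSix19.ProjPush.isGE_resD O.ι K.obj c
    exact KSix19.ProjPush.isGE_RR O.ι ((resD O.ι).obj K.obj) c
  haveI : C.obj.IsGE (c - 1) :=
    (DerivedCategory.TStructure.t (C := Y.Modules)).isGE₂ _ (rot_of_distTriang _ hT') (c - 1)
      ((DerivedCategory.TStructure.t (C := Y.Modules)).isGE_of_ge (locObj O K).obj (c - 1) c (by omega))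
      ((DerivedCategory.TStructure.t (C := Y.Modules)).isGE_shift K.obj c 1 (c - 1) (by omega))
  obtain ⟨d', hd'⟩ := exists_map_triangle f hf adj hT
  refine (Triangle.isZero₃_iff_isIso₁ _ ((resD _).map_distinguished _ hd')).1 ?_
  exact isZero_resD_adjoint_of_isGE f hf adj O (TopologicalSpace.NoetherianSpace.isCompact _) C (c - 1) hC

end GrothLib.HomBC22
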