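import Groth.Agent.Lib.HomBC22.Linear
import Groth.Agent.Lib.OX.Approx
import Groth.Agent.Lib.OX.CohRHom
import Groth.Agent.Lib.RightAdj22.SupportBdd

/-! # Flat base change of morphisms out of coherent bounded above objects -/

set_option autoImplicit false
set_option maxHeartbeats 1000000
set_option linter.style.haveILetI false
set_option backward.isDefEq.respectTransparency false
universe u

open CategoryTheory CategoryTheory.Limits CategoryTheory.Pretriangulated AlgebraicGeometry DerivedCategory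

attribute [local instance] HasDerivedCategory.standard

noncomputable section

namespace GrothLib.HomBC22

open GrothLib.OX

/-- If the cone has no cohomology in the degrees of `M` (and one below), the map induces a bijection. -/
theorem bijective_precomp_of_cone {Z : Scheme.{u}} {P Q C M : DCoh.D Z} {α : P ⟶ Q} {c : Q ⟶ C} {d : C ⟶ P⟦(1 : ℤ)⟧}
    (hT : Triangle.mk α c d ∈ distTriang _) (n : ℤ) [M.IsGE n] (hC : ∀ i, n - 1 ≤ i → IsZero (DCoh.HD C i)) :
    Function.Bijective fun φ : Q ⟶ M => α ≫ φ := by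
  haveI : C.IsLE (n - 2) := (DerivedCategory.isLE_iff _ _).2 fun i hi => hC i (by omega)
  haveI : (C⟦(-1 : ℤ)⟧).IsLE (n - 1) :=
    DerivedCategory.TStructure.t.isLE_shift C (n - 2) (-1) (n - 1) (by omega)
  have h0 : ∀ (D : DCoh.D Z) (m : ℤ) [D.IsLE m] (φ : D ⟶ M), m < n → φ = 0 := fun D m _ φ hm =>
    (DerivedCategory.TStructure.t (C := Z.Modules)).zero_of_isLE_of_isGE φ m n hm inferInstance inferInstance
  refine ⟨fun φ φ' h => ?_, fun ψ => ?_⟩
  · obtain ⟨χ, hχ⟩ := Triangle.yoneda_exact₂ _ hT (φ - φ') (by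
      show α ≫ (φ - φ') = 0
      rw [Preadditive.comp_sub, sub_eq_zero]
      exact h)
    rw [h0 C (n - 2) χ (by omega), comp_zero] at hχ
    exact sub_eq_zero.1 hχ
  · obtain ⟨φ, hφ⟩ := Triangle.yoneda_exact₂ _ (inv_rot_of_distTriang _ hT) ψ (h0 (C⟦(-1 : ℤ)⟧) (n - 1) _ (by omega))
    exact ⟨φ, hφ.symm⟩

variable {A B : Type u} [CommRing A] [CommRing B] [Algebra A B] {X X' : Scheme.{u}}
variable [X.Over (Spec (CommRingCat.of A))] [X'.Over (Spec (CommRingCat.of B))]
variable (g : X' ⟶ X)
  (H : IsPullback g (X' ↘ Spec (CommRingCat.of B)) (X ↘ Spec (CommRingCat.of A))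
    (Spec.map (CommRingCat.ofHom (algebraMap A B))))

include H in
/-- Maps from coherent bounded above into bounded below objects commute with flat base change. -/
theorem isBCHom_coh [(Scheme.Modules.pullback g).Additive] [PreservesFiniteLimits (Scheme.Modules.pullback g)]
    [Module.Flat A B] [IsNoetherian X] {Q M : DCoh.D X} (hQ : DCoh.IsCohD Q) (b : ℤ) [Q.IsLE b]
    (hM : DCoh.IsQCohD M) (n : ℤ) [M.IsGE n] : IsBCHom (pullD g) (pullD_map_smul g H) Q M := by
  obtain ⟨r, hr⟩ := hasApprox_of_qcqs X ⊥ (fun O _ => by simp)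
  obtain ⟨P, C, α, c, d, hT, hP, -, hC⟩ := hr (n - 1) Q (fun i => (hQ i).1)
    (isPseudoCoherentD_of_isCohD hQ b _)
    (fun i _ => isZero_restrict_of_support _ fun y _ => y.2.elim)
  have hb := bijective_precomp_of_cone (M := M) hT n hC
  have hPC : ∀ i, n - 1 ≤ i → IsZero (DCoh.HD ((pullD g).obj C) i) := fun i hi =>
    ((Scheme.Modules.pullback g).map_isZero (hC i hi)).of_iso ((DerTrunc.homologyMapIso _ i).app C)
  haveI : ((pullD g).obj M).IsGE n := (DerivedCategory.isGE_iff _ _).2 fun i hi =>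
    ((Scheme.Modules.pullback g).map_isZero (DerivedCategory.isZero_of_isGE M n i hi)).of_iso
      ((DerTrunc.homologyMapIso _ i).app M)
  have hb' := bijective_precomp_of_cone (M := (pullD g).obj M) ((pullD g).map_distinguished _ hT) n hPC
  exact (IsBC.transfer (g := semMap (pullD g) (pullD_map_smul g H) Q M)
    (g₂ := semMap (pullD g) (pullD_map_smul g H) P M) (Linear.leftComp A M α) hb
    (Linear.leftComp B ((pullD g).obj M) ((pullD g).map α)) hb' (fun f => ((pullD g).map_comp α f).symm)).2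
    (isBCHom_perfect g H hP hM)

/-- Proper direct images of perfect objects are coherent and bounded above. -/
theorem isCohD_Rpush_perfect {X Y : Scheme.{u}} [IsNoetherian Y] (f : X ⟶ Y) [IsProper f] [DCoh.HasRpush f]
    {M : DCoh.D X} (hM : DCoh.IsPerfect M) :
    DCoh.IsCohD ((DCoh.Rpush f).obj M) ∧ ∃ b : ℤ, ((DCoh.Rpush f).obj M).IsLE b := by
  haveI : CompactSpace X := QuasiCompact.compactSpace_of_compactSpace f
  haveI : IsLocallyNoetherian X := LocallyOfFiniteType.isLocallyNoetherian f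
  obtain ⟨l₀, hl₀⟩ := KSix19.ProjPush.exists_isGE_of_isPerfect hM
  obtain ⟨b₀, hb₀⟩ := exists_isLE_of_isPerfect hM
  have hMc : DCoh.IsCohD M := fun i =>
    KSix19.BettiExact.isCoh_HD_of_pseudoCoherent (isPseudoCoherentD_of_isPerfect hM (i - 1)) (by omega)
  have hprop : WSerre.cohIn (RpushSupp20.properP f) M := fun i =>
    ⟨hMc i, QCoh.isClosed_support_of_isCoh (hMc i), inferInstance⟩
  exact ⟨(RpushSupp20.isCohD_Rpush f M l₀ hprop).1, RpushSupp20.exists_isLE_Rpush f M l₀ b₀ hprop⟩

end GrothLib.HomBC22
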