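import Groth.Agent.Lib.HomBC22.BCLocal
import Groth.Agent.Lib.TorBC25.ThA

/-! # The base change map of right adjoints is an isomorphism -/

set_option autoImplicit false
set_option maxHeartbeats 1000000
set_option linter.style.haveILetI false
set_option backward.isDefEq.respectTransparency false
universe u

open CategoryTheory CategoryTheory.Limits AlgebraicGeometry

attribute [local instance] HasDerivedCategory.standard

noncomputable section

namespace GrothLib.HomBC22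

open GrothLib.OX

variable {X Y X' Y' : Scheme.{u}} {f : X ⟶ Y} {g : Y' ⟶ Y} {f' : X' ⟶ Y'} {g' : X' ⟶ X}
variable (h : IsPullback g' f' f g)
variable [CompactSpace X] [QuasiSeparatedSpace X] [QuasiSeparatedSpace Y] [QuasiSeparatedSpace Y']
  [CompactSpace X'] [QuasiSeparatedSpace X'] [CompactSpace Y] [CompactSpace Y'] [Flat g]
variable [DCoh.HasRpush f] [DCoh.HasRpush f'] [DCoh.HasRpush g] [DCoh.HasRpush g']
variable {hf : DCoh.RpushPreservesQCoh f} {hf' : DCoh.RpushPreservesQCoh f'} {hg : DCoh.RpushPreservesQCoh g}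
  {hg' : DCoh.RpushPreservesQCoh g'}
variable [DCoh.HasLpull g] [DCoh.HasLpull g'] {hLg : Dual3.LpullPreservesQCoh g} {hLg' : Dual3.LpullPreservesQCoh g'}
variable {a : DCoh.DQCoh Y ⥤ DCoh.DQCoh X} {a' : DCoh.DQCoh Y' ⥤ DCoh.DQCoh X'}
variable (adj : DCoh.RpushQ f hf ⊣ a) (adj' : DCoh.RpushQ f' hf' ⊣ a')
  (e : DCoh.RpushQ g' hg' ⋙ DCoh.RpushQ f hf ≅ DCoh.RpushQ f' hf' ⋙ DCoh.RpushQ g hg)
  (adjg : Dual3.LpullQ g hLg ⊣ DCoh.RpushQ g hg) (adjg' : Dual3.LpullQ g' hLg' ⊣ DCoh.RpushQ g' hg')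

/-- The base change map is natural. -/
theorem bcMap_naturality (hθ : ∀ E, IsIso (thMate e adjg adjg' E)) {K K₁ : DCoh.DQCoh Y} (η : K ⟶ K₁)
    (hξ : IsIso (Dual3.xi adj adj' e ((Dual3.LpullQ g hLg).obj K)))
    (hξ₁ : IsIso (Dual3.xi adj adj' e ((Dual3.LpullQ g hLg).obj K₁))) :
    Dual3.bcMap adj adj' e adjg adjg' K hξ ≫ a'.map ((Dual3.LpullQ g hLg).map η) =
      (Dual3.LpullQ g' hLg').map (a.map η) ≫ Dual3.bcMap adj adj' e adjg adjg' K₁ hξ₁ := by
  haveI := hθ
  apply (adj'.homEquiv _ _).symm.injective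
  rw [← cancel_epi (thMate e adjg adjg' (a.obj K)), Adjunction.homEquiv_naturality_right_symm,
    Adjunction.homEquiv_naturality_left_symm, Adjunction.homEquiv_counit, Adjunction.homEquiv_counit]
  have h1 := bcMap_transpose adj adj' e adjg adjg' K hξ
  have h2 := bcMap_transpose adj adj' e adjg adjg' K₁ hξ₁
  refine (Category.assoc _ _ _).symm.trans ?_
  refine (congrArg (· ≫ _) h1).trans ?_
  refine ((Dual3.LpullQ g hLg).map_comp _ _).symm.trans ?_
  refine Eq.trans ?_ (Category.assoc _ _ _)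
  rw [← thMate_naturality e adjg adjg' (a.map η)]
  refine Eq.trans ?_ (Category.assoc _ _ _).symm
  refine Eq.trans ?_ (congrArg (_ ≫ ·) h2).symm
  refine Eq.trans ?_ ((Dual3.LpullQ g hLg).map_comp _ _)
  exact congrArg _ (adj.counit.naturality η).symm

include h in
/-- **The base change map is an isomorphism.** -/
theorem isIso_bcMap_global (hθ : ∀ E, IsIso (thMate e adjg adjg' E))
    (hξ : ∀ M, IsIso (Dual3.xi adj adj' e M)) (K : DCoh.DQCoh Y)
    (hsa : ∀ (U : Y.Opens) [QuasiCompact U.ι],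
      IsIso ((resD (f ⁻¹ᵁ U).ι).map (a.map (locUnit U K)).hom))
    (hsa' : ∀ (U' : Y'.Opens) [QuasiCompact U'.ι],
      IsIso ((resD (f' ⁻¹ᵁ U').ι).map (a'.map (locUnit U' ((Dual3.LpullQ g hLg).obj K))).hom))
    (hsa₁ : ∀ (U : Y.Opens) [QuasiCompact U.ι] (U' : Y'.Opens) [QuasiCompact U'.ι],
      IsIso ((resD (f' ⁻¹ᵁ U').ι).map (a'.map (locUnit U' ((Dual3.LpullQ g hLg).obj (locObj U K)))).hom))
    (hK : (∀ P : DCoh.DQCoh X, DCoh.IsPerfect P.obj → DCoh.IsPerfect ((DCoh.RpushQ f hf).obj P).obj) ∨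
      (IsNoetherian Y ∧ (∃ n : ℤ, K.obj.IsGE n) ∧ ∀ P : DCoh.DQCoh X, DCoh.IsPerfect P.obj →
        DCoh.IsCohD ((DCoh.RpushQ f hf).obj P).obj ∧ ∃ b : ℤ, ((DCoh.RpushQ f hf).obj P).obj.IsLE b)) :
    IsIso (Dual3.bcMap adj adj' e adjg adjg' K (hξ _)) := by
  haveI : QuasiCompact f := quasiCompact_of_compactSpace f
  haveI : QuasiCompact f' := quasiCompact_of_compactSpace f'
  let bc := Dual3.bcMap adj adj' e adjg adjg' K (hξ _)
  suffices hs : IsIso bc.hom by
    haveI : IsIso ((DCoh.IsQCohD (X := X')).ι.map bc) := hs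
    exact isIso_of_fully_faithful (DCoh.IsQCohD (X := X')).ι bc
  refine TorBC25.isIso_of_local_resD bc.hom fun x => ?_
  obtain ⟨U, hU, hxU, -⟩ := exists_isAffineOpen_mem_and_subset (x := g (f' x)) (U := ⊤) trivial
  obtain ⟨U', hU', hx, e'⟩ := exists_isAffineOpen_mem_and_subset (x := f' x) (U := g ⁻¹ᵁ U) hxU
  let i' := (f' ⁻¹ᵁ U').ι
  refine ⟨_, i', inferInstance, ⟨⟨x, hx⟩, rfl⟩, ?_⟩
  haveI : CompactSpace U.toScheme := isCompact_iff_compactSpace.1 hU.isCompact
  haveI : CompactSpace U'.toScheme := isCompact_iff_compactSpace.1 hU'.isCompact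
  haveI : QuasiCompact U.ι := quasiCompact_of_compactSpace U.ι
  haveI : QuasiCompact U'.ι := quasiCompact_of_compactSpace U'.ι
  let L := Dual3.LpullQ g hLg
  let L' := Dual3.LpullQ g' hLg'
  let η := locUnit U K
  haveI hbc₁ : IsIso ((resD i').map (Dual3.bcMap adj adj' e adjg adjg' (locObj U K) (hξ _)).hom) := by
    refine isIso_resD_bcMap h adj adj' e adjg adjg' hθ hU hU' e' (locObj U K) (restrBij_locObj U K) (hξ _)
      (hsa₁ U U') ?_
    rcases hK with hp | ⟨hN, ⟨n, hn⟩, hcoh⟩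
    · exact Or.inl hp
    · refine Or.inr ⟨hN, ⟨n, ?_⟩, hcoh⟩
      haveI := KSix19.ProjPush.isGE_resD U.ι K.obj n
      exact KSix19.ProjPush.isGE_RR U.ι ((resD U.ι).obj K.obj) n
  haveI : Flat g' := MorphismProperty.of_isPullback (P := @Flat) h.flip ‹_›
  have eX : f' ⁻¹ᵁ U' ≤ g' ⁻¹ᵁ (f ⁻¹ᵁ U) := fun x hx => by
    show f (g' x) ∈ U
    rw [← Scheme.Hom.comp_apply, h.w, Scheme.Hom.comp_apply]
    exact e' hx
  let k₀ := g'.resLE _ _ eX
  let g₀ := g.resLE U U' e'
  haveI := OX.additive_pullback k₀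
  haveI := preservesFiniteLimits_pullback_of_flat k₀
  haveI := OX.additive_pullback g₀
  haveI := preservesFiniteLimits_pullback_of_flat g₀
  obtain ⟨b⟩ := nonempty_lpullAdj g
  obtain ⟨b'⟩ := nonempty_lpullAdj g'
  let γ := gammaIso g' (b'.ofNatIsoRight (rpushIsoRres g')) i' (f ⁻¹ᵁ U).ι k₀ (Scheme.Hom.resLE_comp_ι _ eX)
  let γY := gammaIso g (b.ofNatIsoRight (rpushIsoRres g)) U'.ι U.ι g₀ (Scheme.Hom.resLE_comp_ι _ e')
  haveI hXη : IsIso ((resD i').map (L'.map (a.map η)).hom) := by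
    haveI := hsa U
    exact (NatIso.isIso_map_iff γ (a.map η).hom).2
      (inferInstanceAs (IsIso ((pullD k₀).map ((resD (f ⁻¹ᵁ U).ι).map (a.map (locUnit U K)).hom))))
  haveI hYη : IsIso ((resD U'.ι).map (L.map η).hom) := by
    haveI := isIso_resD_locUnit U K
    exact (NatIso.isIso_map_iff γY η.hom).2
      (inferInstanceAs (IsIso ((pullD g₀).map ((resD U.ι).map (locUnit U K).hom))))
  haveI ha' : IsIso ((resD i').map (a'.map (L.map η)).hom) := by
    haveI := hsa₁ U U'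
    haveI := hsa' U'
    let ζ : locObj U' (L.obj K) ⟶ locObj U' (L.obj (locObj U K)) :=
      (RightAdj22.RRQ U'.ι).map ((RightAdj22.resQ U'.ι).map (L.map η))
    haveI : IsIso ζ := by
      haveI : IsIso ((DCoh.IsQCohD (X := U'.toScheme)).ι.map ((RightAdj22.resQ U'.ι).map (L.map η))) := hYη
      haveI := isIso_of_fully_faithful (DCoh.IsQCohD (X := U'.toScheme)).ι ((RightAdj22.resQ U'.ι).map (L.map η))
      exact Functor.map_isIso _ _
    have hn : L.map η ≫ locUnit U' (L.obj (locObj U K)) = locUnit U' (L.obj K) ≫ ζ :=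
      ObjectProperty.hom_ext _ ((resDAdj U'.ι).unit.naturality (L.map η).hom)
    have hm : (resD i').map (a'.map (L.map η)).hom ≫ (resD i').map (a'.map (locUnit U' (L.obj (locObj U K)))).hom =
        (resD i').map (a'.map (locUnit U' (L.obj K))).hom ≫ (resD i').map (a'.map ζ).hom := by
      rw [← Functor.map_comp, ← Functor.map_comp]
      congr 1
      exact congrArg InducedCategory.Hom.hom ((a'.map_comp _ _).symm.trans ((congrArg _ hn).trans (a'.map_comp _ _)))
    haveI : IsIso ((resD i').map (a'.map ζ).hom) :=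
      inferInstanceAs (IsIso ((resD i').map ((DCoh.IsQCohD (X := X')).ι.map (a'.map ζ))))
    exact @IsIso.of_isIso_fac_right _ _ _ _ _ _ _ _ (hsa₁ U U') inferInstance hm
  have hnat : (resD i').map bc.hom ≫ (resD i').map (a'.map (L.map η)).hom =
      (resD i').map (L'.map (a.map η)).hom ≫
        (resD i').map (Dual3.bcMap adj adj' e adjg adjg' (locObj U K) (hξ _)).hom := by
    rw [← Functor.map_comp, ← Functor.map_comp]
    congr 1
    exact congrArg InducedCategory.Hom.hom (bcMap_naturality adj adj' e adjg adjg' hθ η (hξ _) (hξ _))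
  exact @IsIso.of_isIso_fac_right _ _ _ _ _ _ _ _ ha' inferInstance hnat

end GrothLib.HomBC22
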