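import Groth.Agent.Lib.HomBC22.BCMap
import Groth.Agent.Lib.HomBC22.Coh

/-! # The base change map of right adjoints over affine bases -/

set_option autoImplicit false
set_option maxHeartbeats 1000000
set_option linter.style.haveILetI false
set_option backward.isDefEq.respectTransparency false
universe u

open CategoryTheory CategoryTheory.Limits AlgebraicGeometry

attribute [local instance] HasDerivedCategory.standard

noncomputable section

namespace GrothLib.HomBC22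

open GrothLib.OX

variable {X Y X' Y' : Scheme.{u}} {f : X ⟶ Y} {g : Y' ⟶ Y} {f' : X' ⟶ Y'} {g' : X' ⟶ X}
variable (hsq : IsPullback g' f' f g) [IsAffine Y] [IsAffine Y'] [Flat g] [CompactSpace X] [QuasiSeparatedSpace X]
variable [DCoh.HasRpush f] [DCoh.HasRpush f'] [DCoh.HasRpush g] [DCoh.HasRpush g']
variable {hf : DCoh.RpushPreservesQCoh f} {hf' : DCoh.RpushPreservesQCoh f'} {hg : DCoh.RpushPreservesQCoh g}
  {hg' : DCoh.RpushPreservesQCoh g'}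
variable [DCoh.HasLpull g] [DCoh.HasLpull g'] {hLg : Dual3.LpullPreservesQCoh g} {hLg' : Dual3.LpullPreservesQCoh g'}
variable {a : DCoh.DQCoh Y ⥤ DCoh.DQCoh X} {a' : DCoh.DQCoh Y' ⥤ DCoh.DQCoh X'}
variable (adj : DCoh.RpushQ f hf ⊣ a) (adj' : DCoh.RpushQ f' hf' ⊣ a')
  (e : DCoh.RpushQ g' hg' ⋙ DCoh.RpushQ f hf ≅ DCoh.RpushQ f' hf' ⋙ DCoh.RpushQ g hg)
  (adjg : Dual3.LpullQ g hLg ⊣ DCoh.RpushQ g hg) (adjg' : Dual3.LpullQ g' hLg' ⊣ DCoh.RpushQ g' hg')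

include hsq in
/-- The base change map is an isomorphism when direct images of perfect objects are perfect, or when they are
coherent and bounded above and the object is bounded below. -/
theorem isIso_bcMap_affine (hθ : ∀ E, IsIso (thMate e adjg adjg' E)) (K : DCoh.DQCoh Y)
    (hξ : IsIso (Dual3.xi adj adj' e ((Dual3.LpullQ g hLg).obj K)))
    (hK : (∀ P : DCoh.DQCoh X, DCoh.IsPerfect P.obj → DCoh.IsPerfect ((DCoh.RpushQ f hf).obj P).obj) ∨
      (IsNoetherian Y ∧ (∃ n : ℤ, K.obj.IsGE n) ∧ ∀ P : DCoh.DQCoh X, DCoh.IsPerfect P.obj →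
        DCoh.IsCohD ((DCoh.RpushQ f hf).obj P).obj ∧ ∃ b : ℤ, ((DCoh.RpushQ f hf).obj P).obj.IsLE b)) :
    IsIso (Dual3.bcMap adj adj' e adjg adjg' K hξ) := by
  letI : Algebra Γ(Y, ⊤) Γ(Y', ⊤) := g.appTop.hom.toAlgebra
  letI : Y.Over (Spec (CommRingCat.of Γ(Y, ⊤))) := ⟨Y.isoSpec.hom⟩
  letI : Y'.Over (Spec (CommRingCat.of Γ(Y', ⊤))) := ⟨Y'.isoSpec.hom⟩
  letI : X.Over (Spec (CommRingCat.of Γ(Y, ⊤))) := ⟨f ≫ Y.isoSpec.hom⟩
  letI : X'.Over (Spec (CommRingCat.of Γ(Y', ⊤))) := ⟨f' ≫ Y'.isoSpec.hom⟩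
  haveI : f.IsOver (Spec (CommRingCat.of Γ(Y, ⊤))) := ⟨rfl⟩
  haveI : f'.IsOver (Spec (CommRingCat.of Γ(Y', ⊤))) := ⟨rfl⟩
  haveI : IsIso (Y ↘ Spec (CommRingCat.of Γ(Y, ⊤))) := inferInstanceAs (IsIso Y.isoSpec.hom)
  haveI : IsIso (Y' ↘ Spec (CommRingCat.of Γ(Y', ⊤))) := inferInstanceAs (IsIso Y'.isoSpec.hom)
  have H : IsPullback g (Y' ↘ Spec (CommRingCat.of Γ(Y', ⊤))) (Y ↘ Spec (CommRingCat.of Γ(Y, ⊤)))
      (Spec.map (CommRingCat.ofHom (algebraMap Γ(Y, ⊤) Γ(Y', ⊤)))) :=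
    (IsPullback.of_vert_isIso ⟨(Scheme.isoSpec_hom_naturality g).symm⟩)
  have H' : IsPullback g' (X' ↘ Spec (CommRingCat.of Γ(Y', ⊤))) (X ↘ Spec (CommRingCat.of Γ(Y, ⊤)))
      (Spec.map (CommRingCat.ofHom (algebraMap Γ(Y, ⊤) Γ(Y', ⊤)))) := hsq.paste_vert H
  haveI : Module.Flat Γ(Y, ⊤) Γ(Y', ⊤) := (HasRingHomProperty.iff_of_isAffine (P := @Flat)).1 ‹Flat g›
  haveI : Flat g' := MorphismProperty.of_isPullback (P := @Flat) hsq.flip ‹_›
  haveI := additive_lpull g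
  haveI := additive_lpull g'
  haveI : (Dual3.LpullQ g hLg).Additive :=
    ⟨fun {_ _ φ ψ} => ObjectProperty.hom_ext _ ((DCoh.Lpull g).map_add (f := φ.hom) (g := ψ.hom))⟩
  haveI : (Dual3.LpullQ g' hLg').Additive :=
    ⟨fun {_ _ φ ψ} => ObjectProperty.hom_ext _ ((DCoh.Lpull g').map_add (f := φ.hom) (g := ψ.hom))⟩
  refine isIso_bcMap H H' adj adj' e adjg adjg' hθ K hξ fun P hP => ?_
  rcases hK with hperf | ⟨hN, ⟨n, hn⟩, hcoh⟩
  · exact isBCHom_LpullQ g H hLg (hperf P hP)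
  · obtain ⟨hc, b, hb⟩ := hcoh P hP
    haveI := OX.additive_pullback g
    haveI := preservesFiniteLimits_pullback_of_flat g
    obtain ⟨l⟩ := DualRing.nonempty_lpull_flat g
    exact isBCHom_LpullQ_of_lpull g H hLg
      (isBCHom_natIso l _ (pullD_map_smul g H) (isBCHom_coh g H hc b K.property n))

end GrothLib.HomBC22
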