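import Groth.Agent.Lib.HomBC22.BCMap
import Groth.Agent.Lib.HomBC22.Coh
import Groth.Agent.Lib.HomBC22.LocalAdj
import Groth.Agent.Lib.BaseChange22.Compact

/-! # The base change map of right adjoints, locally on the base -/

set_option autoImplicit false
set_option maxHeartbeats 1000000
set_option linter.style.haveILetI false
set_option backward.isDefEq.respectTransparency false
universe u

open CategoryTheory CategoryTheory.Limits AlgebraicGeometry CategoryTheory.Pretriangulated

attribute [local instance] HasDerivedCategory.standard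

noncomputable section

namespace GrothLib.HomBC22

open GrothLib.OX

/-- Inverse image and restriction, in a square. -/
def gammaIso {Z Z' U U' : Scheme.{u}} (g : Z' ⟶ Z) [DCoh.HasLpull g] (adj : DCoh.Lpull g ⊣ RR g)
    (i' : U' ⟶ Z') [IsOpenImmersion i'] (i : U ⟶ Z) [IsOpenImmersion i] (k : U' ⟶ U) (w : k ≫ i = i' ≫ g)
    [(Scheme.Modules.pullback k).Additive] [PreservesFiniteLimits (Scheme.Modules.pullback k)]
    [PreservesFiniteColimits (Scheme.Modules.pullback k)] :
    DCoh.Lpull g ⋙ resD i' ≅ resD i ⋙ pullD k :=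
  (adj.comp (resDAdj i')).leftAdjointUniq
    (((resDAdj i).comp (pullDAdj k)).ofNatIsoRight (RRCompIso k i ≪≫ RRCongr w ≪≫ (RRCompIso i' g).symm))

variable {X Y X' Y' : Scheme.{u}} {f : X ⟶ Y} {g : Y' ⟶ Y} {f' : X' ⟶ Y'} {g' : X' ⟶ X}
variable (h : IsPullback g' f' f g)
variable [CompactSpace X] [QuasiSeparatedSpace X] [QuasiSeparatedSpace Y] [QuasiSeparatedSpace Y']
  [CompactSpace X'] [QuasiSeparatedSpace X'] [CompactSpace Y] [CompactSpace Y'] [Flat g]
variable [DCoh.HasRpush f] [DCoh.HasRpush f'] [DCoh.HasRpush g] [DCoh.HasRpush g']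
variable {hf : DCoh.RpushPreservesQCoh f} {hf' : DCoh.RpushPreservesQCoh f'} {hg : DCoh.RpushPreservesQCoh g}
  {hg' : DCoh.RpushPreservesQCoh g'}
variable [DCoh.HasLpull g] [DCoh.HasLpull g'] {hLg : Dual3.LpullPreservesQCoh g} {hLg' : Dual3.LpullPreservesQCoh g'}
variable {a : DCoh.DQCoh Y ⥤ DCoh.DQCoh X} {a' : DCoh.DQCoh Y' ⥤ DCoh.DQCoh X'}
variable (adj : DCoh.RpushQ f hf ⊣ a) (adj' : DCoh.RpushQ f' hf' ⊣ a')
  (e : DCoh.RpushQ g' hg' ⋙ DCoh.RpushQ f hf ≅ DCoh.RpushQ f' hf' ⋙ DCoh.RpushQ g hg)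
  (adjg : Dual3.LpullQ g hLg ⊣ DCoh.RpushQ g hg) (adjg' : Dual3.LpullQ g' hLg' ⊣ DCoh.RpushQ g' hg')

theorem bcMap_transpose [∀ E, IsIso (thMate e adjg adjg' E)] (K : DCoh.DQCoh Y)
    (hξ : IsIso (Dual3.xi adj adj' e ((Dual3.LpullQ g hLg).obj K))) :
    thMate e adjg adjg' (a.obj K) ≫ (DCoh.RpushQ f' hf').map (Dual3.bcMap adj adj' e adjg adjg' K hξ) ≫
      adj'.counit.app _ = (Dual3.LpullQ g hLg).map (adj.counit.app K) := by
  haveI := hξ
  rw [show (DCoh.RpushQ f' hf').map (Dual3.bcMap adj adj' e adjg adjg' K hξ) ≫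
    adj'.counit.app ((Dual3.LpullQ g hLg).obj K) = (adj'.homEquiv _ _).symm (Dual3.bcMap adj adj' e adjg adjg' K hξ)
    from (adj'.homEquiv_counit _ _ _).symm]
  refine thMate_comp_transpose adj adj' e adjg adjg' K _ ?_
  have h1 : Dual3.bcMap adj adj' e adjg adjg' K hξ = (adjg'.homEquiv _ _).symm
      (a.map (adjg.unit.app K) ≫ inv (Dual3.xi adj adj' e ((Dual3.LpullQ g hLg).obj K))) := by
    rw [Adjunction.homEquiv_counit, Functor.map_comp, Category.assoc]
    rfl
  refine (congrArg (· ≫ _) ((congrArg _ h1).trans (Equiv.apply_symm_apply (adjg'.homEquiv _ _) _))).trans ?_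
  refine (Category.assoc _ _ _).trans ?_
  exact (congrArg (a.map (adjg.unit.app K) ≫ ·)
    (IsIso.inv_hom_id (Dual3.xi adj adj' e ((Dual3.LpullQ g hLg).obj K)))).trans (Category.comp_id _)

include h in
/-- The base change map is an isomorphism over affine opens, for local objects. -/
theorem isIso_resD_bcMap (hθ : ∀ E, IsIso (thMate e adjg adjg' E)) {U : Y.Opens} (hU : IsAffineOpen U)
    {U' : Y'.Opens} (hU' : IsAffineOpen U') (e' : U' ≤ g ⁻¹ᵁ U) (K : DCoh.DQCoh Y) (hr : RestrBij U.ι K.obj)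
    (hξ : IsIso (Dual3.xi adj adj' e ((Dual3.LpullQ g hLg).obj K))) [QuasiCompact U'.ι]
    (hsa' : IsIso ((resD (f' ⁻¹ᵁ U').ι).map (a'.map (locUnit U' ((Dual3.LpullQ g hLg).obj K))).hom))
    (hK : (∀ P : DCoh.DQCoh X, DCoh.IsPerfect P.obj → DCoh.IsPerfect ((DCoh.RpushQ f hf).obj P).obj) ∨
      (IsNoetherian Y ∧ (∃ n : ℤ, K.obj.IsGE n) ∧ ∀ P : DCoh.DQCoh X, DCoh.IsPerfect P.obj →
        DCoh.IsCohD ((DCoh.RpushQ f hf).obj P).obj ∧ ∃ b : ℤ, ((DCoh.RpushQ f hf).obj P).obj.IsLE b)) :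
    IsIso ((resD (f' ⁻¹ᵁ U').ι).map (Dual3.bcMap adj adj' e adjg adjg' K hξ).hom) := by
  haveI : QuasiCompact f := quasiCompact_of_compactSpace f
  haveI : QuasiSeparated f := QuasiSeparated.of_quasiSeparatedSpace f
  haveI : QuasiCompact f' := quasiCompact_of_compactSpace f'
  haveI : QuasiSeparated f' := QuasiSeparated.of_quasiSeparatedSpace f'
  haveI : CompactSpace U.toScheme := isCompact_iff_compactSpace.1 hU.isCompact
  haveI : CompactSpace U'.toScheme := isCompact_iff_compactSpace.1 hU'.isCompact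
  haveI : IsAffine U.toScheme := hU
  haveI : IsAffine U'.toScheme := hU'
  haveI : QuasiCompact U.ι := quasiCompact_of_compactSpace U.ι
  -- the squares
  let iX := (f ⁻¹ᵁ U).ι
  let i' := (f' ⁻¹ᵁ U').ι
  let g₀ : U'.toScheme ⟶ U.toScheme := g.resLE U U' e'
  have hg₀ : g₀ ≫ U.ι = U'.ι ≫ g := Scheme.Hom.resLE_comp_ι _ e'
  have eX : f' ⁻¹ᵁ U' ≤ g' ⁻¹ᵁ (f ⁻¹ᵁ U) := fun x hx => by
    show f (g' x) ∈ U
    rw [← Scheme.Hom.comp_apply, h.w, Scheme.Hom.comp_apply]
    exact e' hx
  let k₀ : (f' ⁻¹ᵁ U').toScheme ⟶ (f ⁻¹ᵁ U).toScheme := g'.resLE _ _ eX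
  have hk₀ : k₀ ≫ iX = i' ≫ g' := Scheme.Hom.resLE_comp_ι _ eX
  have hmid : IsPullback k₀ (f' ∣_ U') (f ∣_ U) g₀ := by
    have hsq : IsPullback iX (f ∣_ U) f U.ι := (isPullback_morphismRestrict f U).flip
    have hbig : IsPullback (k₀ ≫ iX) (f' ∣_ U') f (g₀ ≫ U.ι) := by
      rw [hk₀, hg₀]
      exact ((isPullback_morphismRestrict f' U').flip).paste_horiz h
    refine IsPullback.of_right hbig ?_ hsq
    rw [← cancel_mono U.ι, Category.assoc, Category.assoc, hsq.w.symm, ← Category.assoc, hbig.w]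
  haveI : Flat g₀ := inferInstance
  haveI : Flat k₀ := MorphismProperty.of_isPullback (P := @Flat) hmid.flip ‹_›
  haveI : Flat g' := MorphismProperty.of_isPullback (P := @Flat) h.flip ‹_›
  haveI := OX.additive_pullback k₀
  haveI := preservesFiniteLimits_pullback_of_flat k₀
  haveI := OX.additive_pullback g₀
  haveI := preservesFiniteLimits_pullback_of_flat g₀
  haveI : CompactSpace (f ⁻¹ᵁ U).toScheme :=
    isCompact_iff_compactSpace.1 (f.isCompact_preimage hU.isCompact)
  haveI : QuasiSeparatedSpace (f ⁻¹ᵁ U).toScheme := quasiSeparatedSpace_of_quasiSeparated (f ⁻¹ᵁ U).ι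
  -- scalars
  let A := Γ(U.toScheme, ⊤)
  let B := Γ(U'.toScheme, ⊤)
  letI : Algebra A B := g₀.appTop.hom.toAlgebra
  letI : U.toScheme.Over (Spec (CommRingCat.of A)) := ⟨U.toScheme.isoSpec.hom⟩
  letI : U'.toScheme.Over (Spec (CommRingCat.of B)) := ⟨U'.toScheme.isoSpec.hom⟩
  letI : (f ⁻¹ᵁ U).toScheme.Over (Spec (CommRingCat.of A)) := ⟨(f ∣_ U) ≫ U.toScheme.isoSpec.hom⟩
  letI : (f' ⁻¹ᵁ U').toScheme.Over (Spec (CommRingCat.of B)) := ⟨(f' ∣_ U') ≫ U'.toScheme.isoSpec.hom⟩
  haveI : (f ∣_ U).IsOver (Spec (CommRingCat.of A)) := ⟨rfl⟩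
  haveI : (f' ∣_ U').IsOver (Spec (CommRingCat.of B)) := ⟨rfl⟩
  haveI : IsIso (U.toScheme ↘ Spec (CommRingCat.of A)) := inferInstanceAs (IsIso U.toScheme.isoSpec.hom)
  haveI : IsIso (U'.toScheme ↘ Spec (CommRingCat.of B)) := inferInstanceAs (IsIso U'.toScheme.isoSpec.hom)
  have H : IsPullback g₀ (U'.toScheme ↘ Spec (CommRingCat.of B)) (U.toScheme ↘ Spec (CommRingCat.of A))
      (Spec.map (CommRingCat.ofHom (algebraMap A B))) :=
    IsPullback.of_vert_isIso ⟨(Scheme.isoSpec_hom_naturality g₀).symm⟩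
  have H' : IsPullback k₀ ((f' ⁻¹ᵁ U').toScheme ↘ Spec (CommRingCat.of B))
      ((f ⁻¹ᵁ U).toScheme ↘ Spec (CommRingCat.of A)) (Spec.map (CommRingCat.ofHom (algebraMap A B))) :=
    hmid.paste_vert H
  haveI : Module.Flat A B := (HasRingHomProperty.iff_of_isAffine (P := @Flat)).1 ‹Flat g₀›
  -- inverse images
  obtain ⟨b⟩ := nonempty_lpullAdj g
  obtain ⟨b'⟩ := nonempty_lpullAdj g'
  let adjY := b.ofNatIsoRight (rpushIsoRres g)
  let adjX := b'.ofNatIsoRight (rpushIsoRres g')
  let γ := gammaIso g' adjX i' iX k₀ hk₀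
  let γY := gammaIso g adjY U'.ι U.ι g₀ hg₀
  let F := DCoh.RpushQ f hf
  let F' := DCoh.RpushQ f' hf'
  let L := Dual3.LpullQ g hLg
  let L' := Dual3.LpullQ g' hLg'
  let bc := Dual3.bcMap adj adj' e adjg adjg' K hξ
  let t : F'.obj (L'.obj (a.obj K)) ⟶ L.obj K := F'.map bc ≫ adj'.counit.app (L.obj K)
  haveI := hθ
  have ht : thMate e adjg adjg' (a.obj K) ≫ t = L.map (adj.counit.app K) :=
    bcMap_transpose adj adj' e adjg adjg' K hξ
  have key : ∀ P : DCoh.DQCoh X, DCoh.IsPerfect P.obj → Function.Bijective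
      fun y : (resD i').obj (L'.obj P).obj ⟶ (resD i').obj (L'.obj (a.obj K)).obj => y ≫ (resD i').map bc.hom := by
    intro P hP
    let M := L'.obj P
    let θP := thMate e adjg adjg' P
    haveI := hθ P
    have hloc := bijective_transp_counit_of_isIso U' adj' (L.obj K) hsa' M
    rw [← Function.Bijective.of_comp_iff' hloc]
    have e1 : (fun y => transp U' (counitT adj' (L.obj K)) y) ∘
        (fun y : (resD i').obj M.obj ⟶ (resD i').obj (L'.obj (a.obj K)).obj => y ≫ (resD i').map bc.hom) =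
        fun y => transp U' t y := by
      funext y
      exact transp_comp U' (counitT adj' (L.obj K)) bc y
    rw [e1]
    let cX := Linear.homCongr B (γ.app P.obj) (γ.app (a.obj K).obj)
    let θr := (resD U'.ι).mapIso ((DCoh.IsQCohD (X := Y')).ι.mapIso (asIso θP))
    let cY := Linear.homCongr B (θr.symm ≪≫ γY.app (F.obj P).obj) (γY.app K.obj)
    let R := RR (f' ∣_ U')
    let T : ((pullD k₀).obj ((resD iX).obj P.obj) ⟶ (pullD k₀).obj ((resD iX).obj (a.obj K).obj)) →ₗ[B]
        ((pullD g₀).obj ((resD U.ι).obj (F.obj P).obj) ⟶ (pullD g₀).obj ((resD U.ι).obj K.obj)) :=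
      { toFun := fun z => cY (transp U' t (cX.symm z))
        map_add' := fun z z' => by
          haveI : R.Additive := inferInstance
          rw [map_add, ← map_add cY]
          congr 1
          simp only [transp, Functor.map_add, Preadditive.add_comp, Preadditive.comp_add]
        map_smul' := fun r z => by
          rw [map_smul, RingHom.id_apply, ← map_smul cY]
          congr 1
          simp only [transp]
          rw [RR_map_smul, Linear.smul_comp, Linear.comp_smul] }
    let u' : ((resD iX).obj P.obj ⟶ (resD iX).obj (a.obj K).obj) →ₗ[A]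
        ((resD U.ι).obj (F.obj P).obj ⟶ (resD U.ι).obj K.obj) :=
      { toFun := fun ψ => transp U (counitT adj K) ψ
        map_add' := fun z z' => by
          simp only [transp, Functor.map_add, Preadditive.add_comp, Preadditive.comp_add]
        map_smul' := fun r z => by
          simp only [transp]
          rw [RR_map_smul, Linear.smul_comp, Linear.comp_smul]
          rfl }
    have hu' : Function.Bijective u' := bijective_transp_counit U adj hr P
    have hbcX : IsBCHom (pullD k₀) (pullD_map_smul k₀ H') ((resD iX).obj P.obj) ((resD iX).obj (a.obj K).obj) :=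
      isBCHom_perfect k₀ H' (isPerfect_resD hP iX) (isQCohD_resD iX (a.obj K).property)
    have hbcY : IsBCHom (pullD g₀) (pullD_map_smul g₀ H) ((resD U.ι).obj (F.obj P).obj) ((resD U.ι).obj K.obj) := by
      rcases hK with hperf | ⟨hN, ⟨n, hn⟩, hcoh⟩
      · exact isBCHom_perfect g₀ H (isPerfect_resD (hperf P hP) U.ι) (isQCohD_resD U.ι K.property)
      · obtain ⟨hc, m, hm⟩ := hcoh P hP
        haveI : IsNoetherian U.toScheme := ⟨⟩
        haveI := KSix19.ProjPush.isGE_resD U.ι K.obj n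
        haveI := KSix19.isLE_resD U.ι hm
        exact isBCHom_coh g₀ H (fun i => QCoh.isCoh_of_iso (HDResIso U.ι _ i).symm (Cohom.isCoh_restrict _ (hc i) U.ι)) m
          (isQCohD_resD U.ι K.property) n
    have hT : Function.Bijective T := by
      refine bijective_of_isBC hbcX hbcY u' hu' T fun ψ => ?_
      obtain ⟨φ, rfl⟩ := (restrBij_adjoint U adj hr P.obj P.property).2 ψ
      let φ₀ : P ⟶ a.obj K := ObjectProperty.homMk φ
      have hX : cX.symm ((pullD k₀).map ((resD iX).map φ)) = (resD i').map (L'.map φ₀).hom := by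
        rw [LinearEquiv.symm_apply_eq]
        simp only [cX, Linear.homCongr_apply, Category.assoc, Iso.app_hom, Iso.app_inv]
        exact ((congrArg (γ.inv.app P.obj ≫ ·) (γ.hom.naturality φ)).trans (Iso.inv_hom_id_app_assoc γ _ _)).symm
      show cY (transp U' t (cX.symm ((pullD k₀).map ((resD iX).map φ)))) =
        (pullD g₀).map (transp U (counitT adj K) ((resD iX).map φ₀.hom))
      rw [hX, transp_map, transp_map]
      have h2 : F'.map (L'.map φ₀) ≫ t = inv θP ≫ L.map (F.map φ₀ ≫ counitT adj K) := by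
        rw [IsIso.eq_inv_comp, ← Category.assoc, ← thMate_naturality e adjg adjg' φ₀, Category.assoc, ht,
          ← Functor.map_comp]
      rw [h2]
      simp only [cY, Linear.homCongr_apply, Category.assoc, Iso.app_hom, Iso.app_inv, Iso.trans_inv,
        Iso.symm_inv]
      rw [show (resD U'.ι).map (inv θP ≫ L.map (F.map φ₀ ≫ counitT adj K)).hom =
        θr.inv ≫ (resD U'.ι).map (L.map (F.map φ₀ ≫ counitT adj K)).hom from Functor.map_comp _ _ _]
      simp only [Category.assoc, Iso.hom_inv_id_assoc]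
      exact (congrArg (γY.inv.app (F.obj P).obj ≫ ·) (γY.hom.naturality (F.map φ₀ ≫ counitT adj K).hom)).trans
        (Iso.inv_hom_id_app_assoc γY _ _)
    have eT : ⇑T = cY ∘ (fun y => transp U' t y) ∘ cX.symm := rfl
    rw [eT] at hT
    exact (Function.Bijective.of_comp_iff _ cX.symm.bijective).1
      ((Function.Bijective.of_comp_iff' cY.bijective _).1 hT)
  -- detection
  obtain ⟨C, c, d, hT⟩ := distinguished_cocone_triangle ((resD i').map bc.hom)
  have hE₁ : DCoh.IsQCohD ((resD i').obj (L'.obj (a.obj K)).obj) := isQCohD_resD i' (L'.obj _).property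
  have hE₂ : DCoh.IsQCohD ((resD i').obj (a'.obj (L.obj K)).obj) := isQCohD_resD i' (a'.obj _).property
  suffices hC : IsZero C from (Triangle.isZero₃_iff_isIso₁ _ hT).1 hC
  haveI : QuasiCompact i' :=
    MorphismProperty.of_isPullback (P := @QuasiCompact) (isPullback_morphismRestrict f' U') ‹_›
  haveI : QuasiCompact g' := quasiCompact_of_compactSpace g'
  haveI : QuasiSeparated g' := QuasiSeparated.of_quasiSeparatedSpace g'
  refine BaseChange22.isZero_of_RR_comp h hU hU' e' (isQCohD_obj₃ hT hE₁ hE₂) ?_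
  let Φ := (RR g').map ((RR i').map ((resD i').map bc.hom))
  haveI hΦ : IsIso Φ := by
    refine Detect22.isIso_of_perfect_hom (isQCohD_Rres g' _ (isQCohD_Rres i' _ hE₁))
      (isQCohD_Rres g' _ (isQCohD_Rres i' _ hE₂)) Φ fun P hP => ?_
    let P₀ : DCoh.DQCoh X := ⟨P, isQCohD_of_isPerfect hP⟩
    let Ad := adjX.comp (resDAdj i')
    have : (fun y : P ⟶ (RR g').obj ((RR i').obj ((resD i').obj (L'.obj (a.obj K)).obj)) => y ≫ Φ) =
        Ad.homEquiv P _ ∘ (fun x : (resD i').obj (L'.obj P₀).obj ⟶ (resD i').obj (L'.obj (a.obj K)).obj =>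
          x ≫ (resD i').map bc.hom) ∘ (Ad.homEquiv P _).symm := by
      funext y
      exact ((Ad.homEquiv_naturality_right _ _).trans (congrArg (· ≫ _) (Equiv.apply_symm_apply _ _))).symm
    rw [this]
    exact (Equiv.bijective _).comp ((key P₀ hP).comp (Equiv.bijective _))
  haveI : (SiteDer.Rres (rmor i')).IsTriangulated := SiteDer.isTriangulated_res_map (rmor i').push
  haveI : (SiteDer.Rres (rmor g')).IsTriangulated := SiteDer.isTriangulated_res_map (rmor g').push
  exact (Triangle.isZero₃_iff_isIso₁ _ ((RR g').map_distinguished _ ((RR i').map_distinguished _ hT))).2 hΦ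

end GrothLib.HomBC22
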