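import Groth.Agent.Lib.HomBC22.BCMapMate
import Groth.Agent.Lib.HomBC22.Linear
import Groth.Agent.Lib.BaseChange22.Square
import Groth.Agent.Lib.Detect22.PerfectDetect
import Groth.Agent.Lib.OX.AffineReflect

/-! # The base change map of right adjoints -/

set_option autoImplicit false
set_option maxHeartbeats 1000000
set_option linter.style.haveILetI false
set_option backward.isDefEq.respectTransparency false
universe u

open CategoryTheory CategoryTheory.Limits AlgebraicGeometry

attribute [local instance] HasDerivedCategory.standard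

noncomputable section

namespace GrothLib.HomBC22

open GrothLib.OX

variable {A B : Type u} [CommRing A] [CommRing B] [Algebra A B] {X Y X' Y' : Scheme.{u}}
variable [X.Over (Spec (CommRingCat.of A))] [Y.Over (Spec (CommRingCat.of A))]
  [X'.Over (Spec (CommRingCat.of B))] [Y'.Over (Spec (CommRingCat.of B))]
variable {f : X ⟶ Y} {g : Y' ⟶ Y} {f' : X' ⟶ Y'} {g' : X' ⟶ X}
variable [f.IsOver (Spec (CommRingCat.of A))] [f'.IsOver (Spec (CommRingCat.of B))]
variable (H : IsPullback g (Y' ↘ Spec (CommRingCat.of B)) (Y ↘ Spec (CommRingCat.of A))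
    (Spec.map (CommRingCat.ofHom (algebraMap A B))))
  (H' : IsPullback g' (X' ↘ Spec (CommRingCat.of B)) (X ↘ Spec (CommRingCat.of A))
    (Spec.map (CommRingCat.ofHom (algebraMap A B))))
variable [DCoh.HasRpush f] [DCoh.HasRpush f'] [DCoh.HasRpush g] [DCoh.HasRpush g']
variable {hf : DCoh.RpushPreservesQCoh f} {hf' : DCoh.RpushPreservesQCoh f'} {hg : DCoh.RpushPreservesQCoh g}
  {hg' : DCoh.RpushPreservesQCoh g'}
variable [DCoh.HasLpull g] [DCoh.HasLpull g'] {hLg : Dual3.LpullPreservesQCoh g} {hLg' : Dual3.LpullPreservesQCoh g'}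
variable {a : DCoh.DQCoh Y ⥤ DCoh.DQCoh X} {a' : DCoh.DQCoh Y' ⥤ DCoh.DQCoh X'}
variable (adj : DCoh.RpushQ f hf ⊣ a) (adj' : DCoh.RpushQ f' hf' ⊣ a')
  (e : DCoh.RpushQ g' hg' ⋙ DCoh.RpushQ f hf ≅ DCoh.RpushQ f' hf' ⋙ DCoh.RpushQ g hg)
  (adjg : Dual3.LpullQ g hLg ⊣ DCoh.RpushQ g hg) (adjg' : Dual3.LpullQ g' hLg' ⊣ DCoh.RpushQ g' hg')
variable [Module.Flat A B] [Flat g] [Flat g'] [CompactSpace X] [QuasiSeparatedSpace X]
variable [(Dual3.LpullQ g hLg).Additive] [(Dual3.LpullQ g' hLg').Additive]

include H H' in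
/-- The base change map is an isomorphism as soon as maps out of direct images of perfect objects commute with
base change. -/
theorem isIso_bcMap (hθ : ∀ E, IsIso (thMate e adjg adjg' E)) (K : DCoh.DQCoh Y)
    (hξ : IsIso (Dual3.xi adj adj' e ((Dual3.LpullQ g hLg).obj K)))
    (hT : ∀ P : DCoh.DQCoh X, DCoh.IsPerfect P.obj →
      IsBCHom (Dual3.LpullQ g hLg) (LpullQ_map_smul g H hLg) ((DCoh.RpushQ f hf).obj P) K) :
    IsIso (Dual3.bcMap adj adj' e adjg adjg' K hξ) := by
  haveI := hξ
  haveI := BCCoh.isAffineHom_bc (algebraMap A B) _ _ g' H'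
  let F := DCoh.RpushQ f hf
  let F' := DCoh.RpushQ f' hf'
  let L := Dual3.LpullQ g hLg
  let L' := Dual3.LpullQ g' hLg'
  haveI : PreservesLimitsOfShape (Discrete WalkingPair) a := adj.rightAdjoint_preservesLimits.preservesLimitsOfShape
  haveI : PreservesLimitsOfShape (Discrete WalkingPair) a' := adj'.rightAdjoint_preservesLimits.preservesLimitsOfShape
  haveI : a.IsRightAdjoint := adj.isRightAdjoint
  haveI : a'.IsRightAdjoint := adj'.isRightAdjoint
  haveI : a.Additive := Functor.additive_of_preserves_binary_products a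
  haveI : a'.Additive := Functor.additive_of_preserves_binary_products a'
  haveI : F.Additive := adj.left_adjoint_additive
  haveI : F'.Additive := adj'.left_adjoint_additive
  let bc := Dual3.bcMap adj adj' e adjg adjg' K hξ
  have hbc : adjg'.homEquiv _ _ bc ≫ adj.homEquiv _ _ (e.hom.app (a'.obj (L.obj K)) ≫
      (DCoh.RpushQ g hg).map (adj'.counit.app _)) = a.map (adjg.unit.app K) := by
    have h1 : bc = (adjg'.homEquiv _ _).symm (a.map (adjg.unit.app K) ≫ inv (Dual3.xi adj adj' e (L.obj K))) := by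
      rw [Adjunction.homEquiv_counit, Functor.map_comp, Category.assoc]
      rfl
    refine (congrArg (· ≫ _) ((congrArg _ h1).trans (Equiv.apply_symm_apply (adjg'.homEquiv _ _) _))).trans ?_
    refine (Category.assoc _ _ _).trans ?_
    exact (congrArg (a.map (adjg.unit.app K) ≫ ·) (IsIso.inv_hom_id (Dual3.xi adj adj' e (L.obj K)))).trans
      (Category.comp_id _)
  have htr := thMate_comp_transpose adj adj' e adjg adjg' K bc hbc
  have hy : ∀ P : DCoh.DQCoh X, DCoh.IsPerfect P.obj →
      Function.Bijective fun y : L'.obj P ⟶ L'.obj (a.obj K) => y ≫ bc := fun P hP => by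
    rw [bijective_comp_bc_iff adj' e adjg adjg' P K bc hθ]
    let θP := thMate e adjg adjg' P
    let T : (L'.obj P ⟶ L'.obj (a.obj K)) →ₗ[B] (L.obj (F.obj P) ⟶ L.obj K) :=
      { toFun := fun y => θP ≫ F'.map y ≫ (adj'.homEquiv _ _).symm bc
        map_add' := fun y y' => by
          rw [Functor.map_add, Preadditive.add_comp, Preadditive.comp_add]
        map_smul' := fun b y => by
          rw [RpushQ_map_smul f' hf' b y, Linear.smul_comp, Linear.comp_smul]
          rfl }
    let uu : (P ⟶ a.obj K) →ₗ[A] (F.obj P ⟶ K) :=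
      { toFun := fun φ => F.map φ ≫ adj.counit.app K
        map_add' := fun φ φ' => by
          rw [Functor.map_add, Preadditive.add_comp]
        map_smul' := fun r φ => by
          rw [RpushQ_map_smul f hf r φ, Linear.smul_comp]
          rfl }
    have huu : Function.Bijective uu := by
      have : ⇑uu = (adj.homEquiv P K).symm := funext fun φ => (adj.homEquiv_counit _ _ φ).symm
      rw [this]
      exact (Equiv.bijective _)
    refine bijective_of_isBC (g := semMap L' (LpullQ_map_smul g' H' hLg') P (a.obj K))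
      (g₂ := semMap L (LpullQ_map_smul g H hLg) (F.obj P) K) (isBCHom_LpullQ g' H' hLg' hP) (hT P hP) uu huu T
      fun φ => ?_
    show θP ≫ F'.map (L'.map φ) ≫ (adj'.homEquiv _ _).symm bc = L.map (F.map φ ≫ adj.counit.app K)
    rw [← Category.assoc, ← thMate_naturality e adjg adjg' φ, Category.assoc, htr, ← Functor.map_comp]
  have hG : IsIso ((DCoh.RpushQ g' hg').map bc) := by
    have : IsIso ((DCoh.IsQCohD (X := X)).ι.map ((DCoh.RpushQ g' hg').map bc)) := by
      refine Detect22.isIso_of_perfect_hom ((DCoh.RpushQ g' hg').obj _).property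
        ((DCoh.RpushQ g' hg').obj _).property _ fun P hP => ?_
      let P₀ : DCoh.DQCoh X := ⟨P, isQCohD_of_isPerfect hP⟩
      have h1 : Function.Bijective fun y : P₀ ⟶ (DCoh.RpushQ g' hg').obj (L'.obj (a.obj K)) =>
          y ≫ (DCoh.RpushQ g' hg').map bc := by
        have : (fun y : P₀ ⟶ (DCoh.RpushQ g' hg').obj (L'.obj (a.obj K)) => y ≫ (DCoh.RpushQ g' hg').map bc) =
            adjg'.homEquiv P₀ _ ∘ (fun x => x ≫ bc) ∘ (adjg'.homEquiv P₀ _).symm := by
          funext y
          simp [Adjunction.homEquiv_naturality_right]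
        rw [this]
        exact (Equiv.bijective _).comp ((hy P₀ hP).comp (Equiv.bijective _))
      refine ⟨fun y y' h => ?_, fun y => ?_⟩
      · exact congrArg InducedCategory.Hom.hom (h1.1 (a₁ := ObjectProperty.homMk y) (a₂ := ObjectProperty.homMk y')
          (ObjectProperty.hom_ext _ h))
      · obtain ⟨x, hx⟩ := h1.2 (ObjectProperty.homMk y)
        exact ⟨x.hom, congrArg InducedCategory.Hom.hom hx⟩
    exact isIso_of_fully_faithful (DCoh.IsQCohD (X := X)).ι _
  haveI : IsIso ((DCoh.Rpush g').map bc.hom) :=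
    inferInstanceAs (IsIso ((DCoh.IsQCohD (X := X)).ι.map ((DCoh.RpushQ g' hg').map bc)))
  haveI : IsIso ((DCoh.IsQCohD (X := X')).ι.map bc) :=
    isIso_of_isIso_Rpush g' (L'.obj _).property (a'.obj _).property bc.hom inferInstance
  exact isIso_of_fully_faithful (DCoh.IsQCohD (X := X')).ι bc

end GrothLib.HomBC22
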