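import Groth.Agent.Lib.HomBC22.Functor
import Groth.Agent.Lib.BaseChange22.Mate

/-! # The base change map of right adjoints is detected on morphisms -/

set_option autoImplicit false
universe u v₁ v₂ v₃ v₄ w₁ w₂ w₃ w₄

open CategoryTheory

namespace GrothLib.HomBC22

variable {A : Type w₁} {B : Type w₂} {A' : Type w₃} {B' : Type w₄} [Category.{v₁} A] [Category.{v₂} B]
  [Category.{v₃} A'] [Category.{v₄} B']
  {F : A ⥤ B} {a : B ⥤ A} {F' : A' ⥤ B'} {a' : B' ⥤ A'} {G : B' ⥤ B} {G' : A' ⥤ A} {L : B ⥤ B'} {L' : A ⥤ A'}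
  (adj : F ⊣ a) (adj' : F' ⊣ a') (e : G' ⋙ F ≅ F' ⋙ G) (adjg : L ⊣ G) (adjg' : L' ⊣ G')

/-- The base change morphism. -/
noncomputable abbrev thMate (E : A) : L.obj (F.obj E) ⟶ F'.obj (L'.obj E) :=
  (adjg.homEquiv _ _).symm (F.map (adjg'.unit.app E) ≫ e.hom.app (L'.obj E))

theorem thMate_naturality {E E' : A} (φ : E ⟶ E') :
    L.map (F.map φ) ≫ thMate e adjg adjg' E' = thMate e adjg adjg' E ≫ F'.map (L'.map φ) := by
  rw [thMate, ← Adjunction.homEquiv_naturality_left_symm, thMate, ← Adjunction.homEquiv_naturality_right_symm]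
  congr 1
  rw [Category.assoc, ← Category.assoc, ← F.map_comp, show φ ≫ adjg'.unit.app E' =
    adjg'.unit.app E ≫ G'.map (L'.map φ) from (adjg'.unit.naturality φ)]
  rw [F.map_comp, Category.assoc]
  congr 1
  exact e.hom.naturality (L'.map φ)

/-- The transpose of the base change map of right adjoints. -/
theorem thMate_comp_transpose (K : B) (bc : L'.obj (a.obj K) ⟶ a'.obj (L.obj K))
    (hbc : adjg'.homEquiv _ _ bc ≫ adj.homEquiv _ _ (e.hom.app (a'.obj (L.obj K)) ≫ G.map (adj'.counit.app _)) =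
      a.map (adjg.unit.app K)) :
    thMate e adjg adjg' (a.obj K) ≫ (adj'.homEquiv _ _).symm bc = L.map (adj.counit.app K) := by
  rw [BaseChange22.homEquiv_symm_comp_xi adj adj' e adjg adjg' bc] at hbc
  apply (adjg.homEquiv _ _).injective
  apply (adj.homEquiv _ _).injective
  refine hbc.trans ?_
  rw [Adjunction.homEquiv_unit adjg, show adjg.unit.app (F.obj (a.obj K)) ≫ G.map (L.map (adj.counit.app K)) =
    adj.counit.app K ≫ adjg.unit.app K from (adjg.unit.naturality (adj.counit.app K)).symm]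
  rw [adj.homEquiv_naturality_right]
  rw [show adj.homEquiv _ _ (adj.counit.app K) = 𝟙 (a.obj K) from by
    rw [Adjunction.homEquiv_unit, Adjunction.right_triangle_components], Category.id_comp]

/-- Composition with the base change map is the transported base change map on morphisms. -/
theorem bijective_comp_bc_iff (P : A) (K : B) (bc : L'.obj (a.obj K) ⟶ a'.obj (L.obj K))
    (hθ : ∀ E : A, IsIso (thMate e adjg adjg' E)) :
    Function.Bijective (fun y : L'.obj P ⟶ L'.obj (a.obj K) => y ≫ bc) ↔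
      Function.Bijective (fun y : L'.obj P ⟶ L'.obj (a.obj K) =>
        thMate e adjg adjg' P ≫ F'.map y ≫ (adj'.homEquiv _ _).symm bc) := by
  haveI := hθ P
  let Φ := (adj'.homEquiv (L'.obj P) (L.obj K)).symm.trans (asIso (thMate e adjg adjg' P)).symm.homFromEquiv
  have h : (fun y : L'.obj P ⟶ L'.obj (a.obj K) => thMate e adjg adjg' P ≫ F'.map y ≫ (adj'.homEquiv _ _).symm bc) =
      Φ ∘ fun y => y ≫ bc := by
    funext y
    simp [Φ, Adjunction.homEquiv_naturality_left_symm]
  rw [h]
  exact ⟨fun hy => Φ.bijective.comp hy, fun hy => (Function.Bijective.of_comp_iff' Φ.bijective _).1 hy⟩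

section Lin

universe w₅ w₆ w₇ w₈
variable {R R' : Type u} [CommRing R] [CommRing R'] [Algebra R R']
variable {H : Type w₅} [AddCommGroup H] [Module R H] {H' : Type w₆} [AddCommGroup H'] [Module R' H']
variable {H₂ : Type w₇} [AddCommGroup H₂] [Module R H₂] {H₂' : Type w₈} [AddCommGroup H₂'] [Module R' H₂']

/-- A linear map between base changes of a bijection is bijective. -/
theorem bijective_of_isBC {g : H →ₛₗ[algebraMap R R'] H'} {g₂ : H₂ →ₛₗ[algebraMap R R'] H₂'} (h : IsBC g) (h₂ : IsBC g₂)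
    (u : H →ₗ[R] H₂) (hu : Function.Bijective u) (T : H' →ₗ[R'] H₂') (hT : ∀ x, T (g x) = g₂ (u x)) :
    Function.Bijective T := by
  have hl : Function.Bijective (u.lTensor R') := (LinearEquiv.lTensor R' (LinearEquiv.ofBijective u hu)).bijective
  have e : ⇑T ∘ lift g = lift g₂ ∘ u.lTensor R' := funext (lift_comp u T hT)
  rw [← Function.Bijective.of_comp_iff _ h, e]
  exact h₂.comp hl

end Lin

end GrothLib.HomBC22
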