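import Groth.Agent.Lib.HomBC22.Module
import Groth.Agent.Lib.OX.PerfectEnvelope
import Groth.Agent.Lib.OX.CompactPerfect
import Groth.Agent.Lib.DerCat.MapHomology
import Groth.Agent.Lib.DualRing.SchemePull

/-! # Flat base change of morphisms out of perfect objects -/

set_option autoImplicit false
set_option maxHeartbeats 1000000
set_option linter.style.haveILetI false
set_option backward.isDefEq.respectTransparency false
universe u

open CategoryTheory CategoryTheory.Limits AlgebraicGeometry Opposite DerivedCategory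

attribute [local instance] HasDerivedCategory.standard

noncomputable section

namespace GrothLib.HomBC22

open GrothLib.OX
open GrothLib.SiteDer (theta theta_map_comp)

variable {A B : Type u} [CommRing A] [CommRing B] [Algebra A B] {X X' : Scheme.{u}}
variable [X.Over (Spec (CommRingCat.of A))] [X'.Over (Spec (CommRingCat.of B))]
variable (g : X' ⟶ X)
  (H : IsPullback g (X' ↘ Spec (CommRingCat.of B)) (X ↘ Spec (CommRingCat.of A))
    (Spec.map (CommRingCat.ofHom (algebraMap A B))))
variable [(Scheme.Modules.pullback g).Additive] [PreservesFiniteLimits (Scheme.Modules.pullback g)]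
  [PreservesFiniteColimits (Scheme.Modules.pullback g)]

/-- Flat inverse image on derived categories. -/
abbrev pullD : DCoh.D X ⥤ DCoh.D X' := (Scheme.Modules.pullback g).mapDerivedCategory

/-- Flat inverse image is left adjoint to derived direct image. -/
def pullDAdj : pullD g ⊣ RR g :=
  haveI : (Scheme.Modules.pushforward g).Additive :=
    (Scheme.Modules.pullbackPushforwardAdjunction g).right_adjoint_additive
  KInj.derivedAdj (Scheme.Modules.pullbackPushforwardAdjunction g)

include H in
theorem pullD_map_smul {K L : DCoh.D X} (a : A) (χ : K ⟶ L) :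
    (pullD g).map (a • χ) = algebraMap A B a • (pullD g).map χ :=
  LinAdj.mapDerived_map_smul (Scheme.Modules.pullback g) (algebraMap A B a) a
    (fun χ => pullback_map_smul g H a χ) χ

theorem theta_smul {R : Type u} [CommRing R] {Z : Scheme.{u}} [Z.Over (Spec (CommRingCat.of R))] {G : Z.Modules}
    {M : DCoh.D Z} {k : ℤ} (r : R) (φ : (singleFunctor Z.Modules k).obj G ⟶ M) :
    theta (r • φ) = r • theta φ := by
  rw [show r • φ = (singleFunctor Z.Modules k).map (r • 𝟙 G) ≫ φ by
    rw [Functor.map_smul, CategoryTheory.Functor.map_id, Linear.smul_comp, Category.id_comp],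
    theta_map_comp, Linear.smul_comp, Category.id_comp]

theorem theta_add {Z : Scheme.{u}} {G : Z.Modules} {M : DCoh.D Z} {k : ℤ}
    (φ ψ : (singleFunctor Z.Modules k).obj G ⟶ M) : theta (φ + ψ) = theta φ + theta ψ := by
  simp [theta]

/-- The inverse image of a generator is a generator. -/
def genPullIso (V : X.Opens) : (genF X').obj (g ⁻¹ᵁ V) ≅ (Scheme.Modules.pullback g).obj ((genF X).obj V) := by
  let P := (Scheme.Modules.pullback g).obj ((genF X).obj V)
  let G' := (genF X').obj (g ⁻¹ᵁ V)
  refine ⟨(genSec P (g ⁻¹ᵁ V)).symm (pullGenEquiv g V P (𝟙 P)),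
    (pullGenEquiv g V G').symm (genSec G' (g ⁻¹ᵁ V) (𝟙 G')), ?_, ?_⟩
  · apply (genSec G' (g ⁻¹ᵁ V)).injective
    refine (SiteDer.secMod_comp _ _ _).trans ?_
    refine (congrArg (fun s => Scheme.Modules.Hom.app _ (g ⁻¹ᵁ V) s) (Equiv.apply_symm_apply _ _)).trans ?_
    refine (pullGenEquiv_comp g V _ _).symm.trans ?_
    exact (congrArg (pullGenEquiv g V G') (Category.id_comp _)).trans (Equiv.apply_symm_apply _ _)
  · apply (pullGenEquiv g V P).injective
    rw [pullGenEquiv_comp, Equiv.apply_symm_apply]
    exact (SiteDer.secMod_comp _ _ _).symm.trans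
      ((congrArg (genSec P (g ⁻¹ᵁ V)) (Category.id_comp _)).trans (Equiv.apply_symm_apply _ _))

include H in
/-- Maps out of the derived generators commute with base change. -/
theorem isBCHom_genD {V : X.Opens} (hV : IsAffineOpen V) (k : ℤ) {M : DCoh.D X} (hM : DCoh.IsQCohD M) :
    IsBCHom (pullD g) (pullD_map_smul g H)
      ((singleFunctor X.Modules k).obj ((genF X).obj V)) M := by
  haveI := BCCoh.isAffineHom_bc (algebraMap A B) _ _ g H
  let P := Scheme.Modules.pullback g
  let G := (genF X).obj V
  let HF := DerivedCategory.homologyFunctor X.Modules k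
  let HF' := DerivedCategory.homologyFunctor X'.Modules k
  let γ := DerTrunc.homologyMapIso P k
  let eS : (pullD g).obj ((singleFunctor X.Modules k).obj G) ≅ (singleFunctor X'.Modules k).obj (P.obj G) :=
    ((P.mapDerivedCategorySingleFunctor k).app G)
  let sX := (singleFunctorCompHomologyFunctorIso X.Modules k).app G
  let sX' := (singleFunctorCompHomologyFunctorIso X'.Modules k).app (P.obj G)
  let c : P.obj G ≅ P.obj G :=
    sX'.symm ≪≫ HF'.mapIso eS.symm ≪≫ γ.app _ ≪≫ P.mapIso sX
  have hM' : DCoh.IsQCohD ((pullD g).obj M) := fun i => by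
    haveI : (DCoh.HD M i).IsQuasicoherent := hM i
    exact isQCoh_of_iso ((DerTrunc.homologyMapIso P i).app M).symm
      (FittSheaf.isQuasicoherent_pullback g (DCoh.HD M i))
  haveI : (DCoh.HD M k).IsQuasicoherent := hM k
  let u : ((singleFunctor X.Modules k).obj G ⟶ M) →ₗ[A] (G ⟶ HF.obj M) :=
    { toFun := fun φ => theta φ, map_add' := theta_add, map_smul' := theta_smul }
  let v : ((pullD g).obj ((singleFunctor X.Modules k).obj G) ⟶ (pullD g).obj M) →ₗ[B]
      (P.obj G ⟶ P.obj (HF.obj M)) :=
    { toFun := fun y => c.inv ≫ theta (eS.inv ≫ y) ≫ γ.hom.app M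
      map_add' := fun y y' => by
        rw [Preadditive.comp_add, theta_add, Preadditive.add_comp, Preadditive.comp_add]
      map_smul' := fun b y => by
        rw [Linear.comp_smul, theta_smul, Linear.smul_comp, Linear.comp_smul]
        rfl }
  have hu : Function.Bijective u := theta_bijective hV hM k
  have hθ : Function.Bijective (fun φ : (singleFunctor X'.Modules k).obj (P.obj G) ⟶ (pullD g).obj M => theta φ) := by
    let i := genPullIso g V
    let iS := (singleFunctor X'.Modules k).mapIso i
    have hb := theta_bijective (hV.preimage g) hM' k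
    have e : (fun φ : (singleFunctor X'.Modules k).obj (P.obj G) ⟶ (pullD g).obj M => theta φ) =
        (fun t => i.inv ≫ t) ∘ (fun φ => theta φ) ∘ fun φ => iS.hom ≫ φ := by
      funext φ
      simp only [Function.comp_apply, iS, Functor.mapIso_hom, theta_map_comp, Iso.inv_hom_id_assoc]
    rw [e]
    have h1 : Function.Bijective (fun φ : (singleFunctor X'.Modules k).obj (P.obj G) ⟶ (pullD g).obj M => iS.hom ≫ φ) :=
      (iS.symm.homFromEquiv).bijective
    have h2 : Function.Bijective (fun t : (genF X').obj (g ⁻¹ᵁ V) ⟶ DCoh.HD ((pullD g).obj M) k => i.inv ≫ t) :=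
      (i.homFromEquiv).bijective
    exact h2.comp (hb.comp h1)
  have hv : Function.Bijective v := by
    have e : ⇑v = (c.homCongr (γ.app M)) ∘ (fun φ => theta φ) ∘ fun y => eS.inv ≫ y := by
      funext y
      simp [v, Iso.homCongr]
    rw [e]
    exact (Equiv.bijective _).comp (hθ.comp eS.homFromEquiv.bijective)
  refine (IsBC.transfer (g := semMap (pullD g) (pullD_map_smul g H) _ _)
    (g₂ := semMap P (pullback_map_smul g H) G (HF.obj M)) u hu v hv fun φ => ?_).2
    (isBCHom_gen g H hV (DCoh.HD M k))
  show c.inv ≫ theta (eS.inv ≫ (pullD g).map φ) ≫ γ.hom.app M = P.map (theta φ)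
  have hn : HF'.map ((pullD g).map φ) ≫ γ.hom.app M = γ.hom.app _ ≫ P.map (HF.map φ) := γ.hom.naturality φ
  rw [Iso.inv_comp_eq]
  simp only [c, theta, Functor.map_comp, Category.assoc, Iso.trans_hom, Iso.symm_hom, Functor.mapIso_hom,
    Iso.app_hom, Functor.mapIso_inv, sX, sX', P, HF, HF', G] at hn ⊢
  rw [hn]
  simp only [← Functor.map_comp, Iso.app_inv, Iso.hom_inv_id_app_assoc]

include H in
/-- **Maps out of perfect objects commute with flat base change.** -/
theorem isBCHom_perfect [Module.Flat A B] [CompactSpace X] [QuasiSeparatedSpace X] {P M : DCoh.D X}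
    (hP : DCoh.IsPerfect P) (hM : DCoh.IsQCohD M) : IsBCHom (pullD g) (pullD_map_smul g H) P M := by
  have hT : TriCat.Thick (fun Z : DCoh.D X => ∀ M, DCoh.IsQCohD M → IsBCHom (pullD g) (pullD_map_smul g H) Z M) :=
    thick_isBCHom (fun M : DCoh.D X => DCoh.IsQCohD M) (fun M n hM => isQCohD_shift hM n)
  exact OX.prop_of_isPerfect (P := fun Z : DCoh.D X => ∀ M, DCoh.IsQCohD M → IsBCHom (pullD g) (pullD_map_smul g H) Z M)
    hT (fun V hV k M hM => isBCHom_genD g H hV k hM) hP M hM

end GrothLib.HomBC22
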