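import Groth.Agent.Lib.HomBC22.Semi
import Groth.Agent.Lib.TriCat.ThickProp
import Mathlib.CategoryTheory.Linear.LinearFunctor
import Mathlib.CategoryTheory.Triangulated.Functor
import Mathlib.CategoryTheory.Triangulated.Yoneda

/-! # Base change of morphisms along a semilinear functor -/

set_option autoImplicit false
set_option maxHeartbeats 1000000
universe u v v' w w'

open CategoryTheory CategoryTheory.Limits CategoryTheory.Pretriangulated

namespace GrothLib.HomBC22

variable {A : Type u} [CommRing A] {B : Type u} [CommRing B] [Algebra A B]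
variable {C : Type w} [Category.{v} C] [Preadditive C] [Linear A C]
variable {D : Type w'} [Category.{v'} D] [Preadditive D] [Linear B D]
variable (F : C ⥤ D) [F.Additive]
  (hF : ∀ {X Y : C} (a : A) (f : X ⟶ Y), F.map (a • f) = algebraMap A B a • F.map f)

/-- The semilinear map on morphisms. -/
def semMap (X Y : C) : (X ⟶ Y) →ₛₗ[algebraMap A B] (F.obj X ⟶ F.obj Y) where
  toFun f := F.map f
  map_add' _ _ := F.map_add
  map_smul' a f := hF a f

theorem semMap_apply {X Y : C} (f : X ⟶ Y) : semMap F hF X Y f = F.map f := rfl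

/-- Morphisms commute with base change. -/
def IsBCHom (X Y : C) : Prop := IsBC (semMap F hF X Y)

variable {F hF}

theorem isBCHom_iso {X X' Y Y' : C} (e : X ≅ X') (e' : Y ≅ Y') (h : IsBCHom F hF X Y) : IsBCHom F hF X' Y' :=
  (IsBC.transfer (g := semMap F hF X Y) (Linear.homCongr A e e').toLinearMap (Linear.homCongr A e e').bijective
    (Linear.homCongr B (F.mapIso e) (F.mapIso e')).toLinearMap (Linear.homCongr B (F.mapIso e) (F.mapIso e')).bijective
    (fun f => by simp [semMap_apply, Linear.homCongr])).1 h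

section Tri

variable [HasZeroObject C] [HasShift C ℤ] [∀ n : ℤ, (shiftFunctor C n).Additive] [Pretriangulated C]
variable [HasZeroObject D] [HasShift D ℤ] [∀ n : ℤ, (shiftFunctor D n).Additive] [Pretriangulated D]
variable [∀ n : ℤ, (shiftFunctor C n).Linear A] [∀ n : ℤ, (shiftFunctor D n).Linear B]
variable [F.CommShift ℤ] [F.IsTriangulated]

theorem isBCHom_shift {X Y : C} (n : ℤ) (h : IsBCHom F hF X Y) : IsBCHom F hF (X⟦n⟧) (Y⟦n⟧) := by
  let u := Functor.mapLinearMap A (shiftFunctor C n) (X := X) (Y := Y)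
  let c := Linear.homCongr B ((F.commShiftIso n).app X).symm ((F.commShiftIso n).app Y).symm
  let v := c.toLinearMap ∘ₗ Functor.mapLinearMap B (shiftFunctor D n) (X := F.obj X) (Y := F.obj Y)
  refine (IsBC.transfer (g := semMap F hF X Y) u ⟨(shiftFunctor C n).map_injective, (shiftFunctor C n).map_surjective⟩ v
    (c.bijective.comp ⟨(shiftFunctor D n).map_injective, (shiftFunctor D n).map_surjective⟩) fun f => ?_).1 h
  show _ = F.map (f⟦n⟧')
  simp [v, c, semMap_apply, Linear.homCongr, Functor.mapLinearMap]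

/-- The objects whose morphisms into a class of targets commute with base change form a thick class. -/
theorem thick_isBCHom [Module.Flat A B] (P : C → Prop) (hP : ∀ (M : C) (n : ℤ), P M → P (M⟦n⟧)) :
    TriCat.Thick (fun X : C => ∀ M, P M → IsBCHom F hF X M) where
  zero {Z} hZ M _ := by
    haveI : Subsingleton (Z ⟶ M) := ⟨hZ.eq_of_src⟩
    haveI : Subsingleton (F.obj Z ⟶ F.obj M) := ⟨(F.map_isZero hZ).eq_of_src⟩
    exact isBC_of_subsingleton _
  shift {X} n hX M hM :=
    isBCHom_iso (Iso.refl _) (shiftNegShift M n) (isBCHom_shift n (hX _ (hP M (-n) hM)))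
  total {X Y Z} i₁ p₁ i₂ p₂ h hX hY M hM := by
    have h' : F.map p₁ ≫ F.map i₁ + F.map p₂ ≫ F.map i₂ = 𝟙 (F.obj Z) := by
      rw [← F.map_comp, ← F.map_comp, ← F.map_add, h, F.map_id]
    refine IsBC.total (g := semMap F hF _ M) (g₁ := semMap F hF _ M) (g₂ := semMap F hF _ M) (Linear.leftComp A M i₁) (Linear.leftComp A M p₁) (Linear.leftComp A M i₂)
      (Linear.leftComp A M p₂) ?_ (Linear.leftComp B (F.obj M) (F.map i₁)) (Linear.leftComp B (F.obj M) (F.map p₁))
      (Linear.leftComp B (F.obj M) (F.map i₂)) (Linear.leftComp B (F.obj M) (F.map p₂)) ?_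
      (fun f => (F.map_comp _ _).symm) (fun f => (F.map_comp _ _).symm) (fun f => (F.map_comp _ _).symm)
      (fun f => (F.map_comp _ _).symm) (hX M hM) (hY M hM)
    · refine LinearMap.ext fun f => ?_
      show p₁ ≫ i₁ ≫ f + p₂ ≫ i₂ ≫ f = f
      rw [← Category.assoc, ← Category.assoc, ← Preadditive.add_comp, h, Category.id_comp]
    · intro f
      show F.map p₁ ≫ F.map i₁ ≫ f + F.map p₂ ≫ F.map i₂ ≫ f = f
      rw [← Category.assoc, ← Category.assoc, ← Preadditive.add_comp, h', Category.id_comp]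
  cone T hT h₁ h₂ M hM := by
    have hs : ∀ {X : C}, (∀ M, P M → IsBCHom F hF X M) → IsBCHom F hF (X⟦(1 : ℤ)⟧) M := fun hX =>
      isBCHom_iso (Iso.refl _) (shiftNegShift M 1) (isBCHom_shift 1 (hX _ (hP M (-1) hM)))
    have hT₁ := rot_of_distTriang _ hT
    have hT₂ := rot_of_distTriang _ hT₁
    have hexC : ∀ (S : Triangle C), S ∈ distTriang C →
        Function.Exact (Linear.leftComp A M S.mor₂) (Linear.leftComp A M S.mor₁) := fun S hS f => by
      refine ⟨fun hf => ?_, ?_⟩
      · obtain ⟨g, hg⟩ := S.yoneda_exact₂ hS f hf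
        exact ⟨g, hg.symm⟩
      · rintro ⟨g, rfl⟩
        show S.mor₁ ≫ S.mor₂ ≫ g = 0
        rw [← Category.assoc, comp_distTriang_mor_zero₁₂ S hS, zero_comp]
    have hexD : ∀ (S : Triangle C), S ∈ distTriang C →
        Function.Exact (Linear.leftComp B (F.obj M) (F.map S.mor₂)) (Linear.leftComp B (F.obj M) (F.map S.mor₁)) :=
      fun S hS f => by
        refine ⟨fun hf => ?_, ?_⟩
        · obtain ⟨g, hg⟩ := (F.mapTriangle.obj S).yoneda_exact₂ (F.map_distinguished _ hS) f hf
          exact ⟨g, hg.symm⟩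
        · rintro ⟨g, rfl⟩
          show F.map S.mor₁ ≫ F.map S.mor₂ ≫ g = 0
          rw [← Category.assoc, ← F.map_comp, comp_distTriang_mor_zero₁₂ S hS, F.map_zero, zero_comp]
    exact IsBC.five (Linear.leftComp A M T.rotate.rotate.mor₂) (Linear.leftComp A M T.rotate.rotate.mor₁)
      (Linear.leftComp A M T.mor₂) (Linear.leftComp A M T.mor₁)
      (Linear.leftComp B (F.obj M) (F.map T.rotate.rotate.mor₂)) (Linear.leftComp B (F.obj M) (F.map T.rotate.rotate.mor₁))
      (Linear.leftComp B (F.obj M) (F.map T.mor₂)) (Linear.leftComp B (F.obj M) (F.map T.mor₁))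
      (g₁ := semMap F hF _ M) (g₂ := semMap F hF _ M) (g₃ := semMap F hF _ M) (g₄ := semMap F hF _ M)
      (g₅ := semMap F hF _ M)
      (hexC _ hT₂) (hexC _ hT₁) (hexC _ hT) (hexD _ hT₂) (hexD _ hT₁) (hexD _ hT)
      (fun f => (F.map_comp _ _).symm) (fun f => (F.map_comp _ _).symm) (fun f => (F.map_comp _ _).symm)
      (fun f => (F.map_comp _ _).symm) (hs h₂) (hs h₁) (h₂ M hM) (h₁ M hM)

end Tri

end GrothLib.HomBC22
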