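import Groth.Agent.Lib.HomBC22.Functor
import Groth.Agent.Lib.BCCoh.BaseChange
import Groth.Agent.Lib.OX.SupportTorsion
import Groth.Agent.Lib.OX.AffineSections
import Groth.Agent.Lib.OX.PullbackFlat

/-! # Base change of maps out of the generators of modules -/

set_option autoImplicit false
set_option maxHeartbeats 1000000
set_option linter.style.haveILetI false
set_option backward.isDefEq.respectTransparency false
universe u

open CategoryTheory CategoryTheory.Limits AlgebraicGeometry Opposite TensorProduct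

noncomputable section

namespace GrothLib.HomBC22

open GrothLib.OX GrothLib.BCCoh

/-- The two notions of base change agree. -/
theorem isBC_of_BCCoh {A B : Type u} [CommRing A] [CommRing B] (inst : Algebra A B) (φ : A →+* B) (hinst : inst = φ.toAlgebra) {M : ModuleCat.{u} A}
    {N : ModuleCat.{u} B} {h : M ⟶ (ModuleCat.restrictScalars φ).obj N} (hh : BCCoh.IsBC φ h) :
    letI := inst
    ∀ (bc : (M : Type u) →ₛₗ[algebraMap A B] (N : Type u)), (∀ m, bc m = h m) → IsBC bc := by
  subst hinst
  intro bc hbc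
  letI := φ.toAlgebra
  letI : Module A N := Module.compHom N φ
  haveI : IsScalarTower A B N := IsScalarTower.of_algebraMap_smul fun _ _ => rfl
  have hh' : IsBaseChange B (linOf φ h) := hh
  have e : ⇑(lift bc) = ⇑hh'.equiv := funext fun z => by
    induction z using TensorProduct.induction_on with
    | zero => simp
    | tmul b s => rw [lift_tmul, hh'.equiv_tmul, hbc]; rfl
    | add x y hx hy => rw [map_add, map_add, hx, hy]
  rw [IsBC, e]
  exact hh'.equiv.bijective

variable {A B : Type u} [CommRing A] [CommRing B] [Algebra A B] {X X' : Scheme.{u}}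
variable [X.Over (Spec (CommRingCat.of A))] [X'.Over (Spec (CommRingCat.of B))]
variable (g : X' ⟶ X)
  (H : IsPullback g (X' ↘ Spec (CommRingCat.of B)) (X ↘ Spec (CommRingCat.of A))
    (Spec.map (CommRingCat.ofHom (algebraMap A B))))

theorem secA_smul_eq (G : X.Modules) (U : X.Opens) (a : A) (s : Γ(G, U)) :
    psiS (X ↘ Spec (CommRingCat.of A)) U a • s =
      X.presheaf.map (homOfLE (le_top : U ≤ ⊤)).op (Coh.toGlobal (X ↘ Spec (CommRingCat.of A)) a) • s :=
  congrArg (· • s) (psiR_apply (X ↘ Spec (CommRingCat.of A)) U a).symm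

theorem smul_app {M N : X.Modules} (a : A) (χ : M ⟶ N) (U : X.Opens) (m : Γ(M, U)) :
    (a • χ).app U m = psiS (X ↘ Spec (CommRingCat.of A)) U a • χ.app U m := by
  rw [KLin.smul_app_apply, secA_smul_eq]

include H in
theorem pushforward_map_smul {M N : X'.Modules} (a : A) (u : M ⟶ N) :
    (Scheme.Modules.pushforward g).map (algebraMap A B a • u) = a • (Scheme.Modules.pushforward g).map u := by
  refine Scheme.Modules.hom_ext _ _ fun U => ?_
  ext m
  refine Eq.trans ?_ (smul_app a _ U m).symm
  refine (smul_app (algebraMap A B a) u (g ⁻¹ᵁ U) m).trans ?_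
  refine congrArg (fun c => c • u.app (g ⁻¹ᵁ U) m) ?_
  rw [← appLE_psiS (algebraMap A B) _ _ g H U (g ⁻¹ᵁ U) le_rfl a, ← Scheme.Hom.app_eq_appLE]
  rfl

include H in
theorem pullback_map_smul {M N : X.Modules} (a : A) (χ : M ⟶ N) :
    (Scheme.Modules.pullback g).map (a • χ) = algebraMap A B a • (Scheme.Modules.pullback g).map χ :=
  LinAdj.left_map_smul (Scheme.Modules.pullbackPushforwardAdjunction g) (algebraMap A B a) a
    (fun u => pushforward_map_smul g H a u) χ

theorem genSec_smul {N : X.Modules} (V : X.Opens) (a : A) (χ : (genF X).obj V ⟶ N) :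
    genSec N V (a • χ) = psiS (X ↘ Spec (CommRingCat.of A)) V a • genSec N V χ := by
  rw [show a • χ = χ ≫ (a • 𝟙 N) by rw [Linear.comp_smul, Category.comp_id]]
  exact (SiteDer.secMod_comp V χ (a • 𝟙 N)).trans (smul_app a (𝟙 N) V (genSec N V χ))

theorem genSec_add {N : X.Modules} (V : X.Opens) (χ χ' : (genF X).obj V ⟶ N) :
    genSec N V (χ + χ') = genSec N V χ + genSec N V χ' := by
  let Δ : N ⊞ N ⟶ N := biprod.desc (𝟙 N) (𝟙 N)
  let y := biprod.lift χ χ'
  have e : χ + χ' = y ≫ Δ := by simp [y, Δ, biprod.lift_desc]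
  have e1 : χ = y ≫ biprod.fst := by simp [y]
  have e2 : χ' = y ≫ biprod.snd := by simp [y]
  have hΔ : Δ = (biprod.fst : N ⊞ N ⟶ N) + biprod.snd := by
    refine biprod.hom_ext' _ _ ?_ ?_ <;> simp [Δ]
  have hc : ∀ f : N ⊞ N ⟶ N, genSec N V (y ≫ f) = f.app V (genSec (N ⊞ N) V y) := fun f =>
    SiteDer.secMod_comp V y f
  rw [e, e1, e2, hc, hc, hc, hΔ]
  rfl

/-- Sections of the pullback are maps out of the pullback of the generator. -/
def pullGenEquiv (V : X.Opens) (N' : X'.Modules) :
    ((Scheme.Modules.pullback g).obj ((genF X).obj V) ⟶ N') ≃ Γ(N', g ⁻¹ᵁ V) :=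
  ((Scheme.Modules.pullbackPushforwardAdjunction g).homEquiv _ _).trans
    (genSec ((Scheme.Modules.pushforward g).obj N') V)

theorem pullGenEquiv_comp (V : X.Opens) {N' N'' : X'.Modules}
    (y : (Scheme.Modules.pullback g).obj ((genF X).obj V) ⟶ N') (w : N' ⟶ N'') :
    pullGenEquiv g V N'' (y ≫ w) = w.app (g ⁻¹ᵁ V) (pullGenEquiv g V N' y) := by
  rw [pullGenEquiv, Equiv.trans_apply, Adjunction.homEquiv_naturality_right]
  exact SiteDer.secMod_comp V _ _

theorem pullGenEquiv_add (V : X.Opens) {N' : X'.Modules}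
    (y y' : (Scheme.Modules.pullback g).obj ((genF X).obj V) ⟶ N') :
    pullGenEquiv g V N' (y + y') = pullGenEquiv g V N' y + pullGenEquiv g V N' y' := by
  simp only [pullGenEquiv, Equiv.trans_apply]
  rw [Adjunction.homEquiv_unit, Adjunction.homEquiv_unit, Adjunction.homEquiv_unit, Functor.map_add,
    Preadditive.comp_add]
  exact genSec_add V _ _

theorem pullGenEquiv_smul (V : X.Opens) {N' : X'.Modules} (b : B)
    (y : (Scheme.Modules.pullback g).obj ((genF X).obj V) ⟶ N') :
    pullGenEquiv g V N' (b • y) =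
      psiS (X' ↘ Spec (CommRingCat.of B)) (g ⁻¹ᵁ V) b • pullGenEquiv g V N' y := by
  rw [show b • y = y ≫ (b • 𝟙 N') by rw [Linear.comp_smul, Category.comp_id], pullGenEquiv_comp]
  exact smul_app b (𝟙 N') (g ⁻¹ᵁ V) _

theorem pullGenEquiv_map (V : X.Opens) {N : X.Modules} (χ : (genF X).obj V ⟶ N) :
    pullGenEquiv g V ((Scheme.Modules.pullback g).obj N) ((Scheme.Modules.pullback g).map χ) =
      pullRes g N V (g ⁻¹ᵁ V) le_rfl (genSec N V χ) := by
  rw [pullGenEquiv, Equiv.trans_apply, Adjunction.homEquiv_unit]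
  refine (congrArg (genSec _ V) ((Scheme.Modules.pullbackPushforwardAdjunction g).unit.naturality χ).symm).trans ?_
  refine (SiteDer.secMod_comp V χ _).trans ?_
  exact (Cohom.map_self_apply ((Scheme.Modules.pullback g).obj N) (homOfLE (le_refl (g ⁻¹ᵁ V))) _).symm

include H in
/-- **Maps out of the generators commute with base change.** -/
theorem isBCHom_gen {V : X.Opens} (hV : IsAffineOpen V) (N : X.Modules) [N.IsQuasicoherent] :
    IsBCHom (Scheme.Modules.pullback g) (pullback_map_smul g H) ((genF X).obj V) N := by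
  let f := X ↘ Spec (CommRingCat.of A)
  let f' := X' ↘ Spec (CommRingCat.of B)
  let N' := (Scheme.Modules.pullback g).obj N
  have hh := isBC_bcHom (algebraMap A B) f f' g H N hV (rfl : g ⁻¹ᵁ V = g ⁻¹ᵁ V)
  let bc : (secA f N V : Type u) →ₛₗ[algebraMap A B] (secA f' N' (g ⁻¹ᵁ V) : Type u) :=
    { toFun := fun s => bcHom (algebraMap A B) f f' g H N V (g ⁻¹ᵁ V) le_rfl s
      map_add' := fun s t => map_add _ s t
      map_smul' := fun a s => (bcHom (algebraMap A B) f f' g H N V (g ⁻¹ᵁ V) le_rfl).hom.map_smul a s }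
  have hbc : IsBC bc :=
    isBC_of_BCCoh ‹Algebra A B› (algebraMap A B) (Algebra.algebra_ext _ _ fun _ => rfl) hh bc fun _ => rfl
  refine (IsBC.transfer (g := semMap (Scheme.Modules.pullback g) (pullback_map_smul g H) ((genF X).obj V) N) (g₂ := bc)
    ({ toFun := fun χ => genSec N V χ
       map_add' := genSec_add V
       map_smul' := fun a χ => genSec_smul V a χ } : _ →ₗ[A] (secA f N V : Type u)) (genSec N V).bijective
    ({ toFun := fun y => pullGenEquiv g V N' y
       map_add' := pullGenEquiv_add g V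
       map_smul' := fun b y => pullGenEquiv_smul g V b y } : _ →ₗ[B] (secA f' N' (g ⁻¹ᵁ V) : Type u))
    (pullGenEquiv g V N').bijective ?_).2 hbc
  intro χ
  exact pullGenEquiv_map g V χ

end GrothLib.HomBC22
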