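import Mathlib.RingTheory.Flat.Basic
import Mathlib.LinearAlgebra.TensorProduct.RightExactness
import Mathlib.Algebra.FiveLemma

/-! # Base change of semilinear maps -/

set_option autoImplicit false
universe u v v' w w'

open TensorProduct

namespace GrothLib.HomBC22

variable {A : Type u} [CommRing A] {B : Type u} [CommRing B] [Algebra A B]
variable {H : Type v} [AddCommGroup H] [Module A H] {H' : Type v'} [AddCommGroup H'] [Module B H']

/-- `b ⊗ x ↦ b • g x`. -/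
noncomputable def lift (g : H →ₛₗ[algebraMap A B] H') : B ⊗[A] H →+ H' :=
  TensorProduct.liftAddHom
    (AddMonoidHom.mk' (fun b => AddMonoidHom.mk' (fun x : H => b • g x) fun x y => by rw [map_add, smul_add])
      fun b c => by ext x; exact add_smul b c _)
    fun a b x => by
      simp only [AddMonoidHom.mk'_apply]
      rw [map_smulₛₗ, smul_smul, Algebra.smul_def, mul_comm]

@[simp] theorem lift_tmul (g : H →ₛₗ[algebraMap A B] H') (b : B) (x : H) : lift g (b ⊗ₜ x) = b • g x := rfl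

/-- The map is a base change. -/
def IsBC (g : H →ₛₗ[algebraMap A B] H') : Prop := Function.Bijective (lift g)

theorem smul_lift (g : H →ₛₗ[algebraMap A B] H') (b : B) (z : B ⊗[A] H) : lift g (b • z) = b • lift g z := by
  induction z using TensorProduct.induction_on with
  | zero => simp
  | tmul c x => rw [TensorProduct.smul_tmul', lift_tmul, lift_tmul, smul_smul]; rfl
  | add x y hx hy => rw [smul_add, map_add, map_add, smul_add, hx, hy]

section Compat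

variable {H₂ : Type w} [AddCommGroup H₂] [Module A H₂] {H₂' : Type w'} [AddCommGroup H₂'] [Module B H₂']
  {g : H →ₛₗ[algebraMap A B] H'} {g₂ : H₂ →ₛₗ[algebraMap A B] H₂'}

/-- The lifts of a compatible pair. -/
theorem lift_comp (u : H →ₗ[A] H₂) (v : H' →ₗ[B] H₂') (h : ∀ x, v (g x) = g₂ (u x)) (z : B ⊗[A] H) :
    v (lift g z) = lift g₂ (u.lTensor B z) := by
  induction z using TensorProduct.induction_on with
  | zero => simp
  | tmul b x => rw [lift_tmul, LinearMap.lTensor_tmul, lift_tmul, map_smul, h]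
  | add x y hx hy => simp only [map_add, hx, hy]

/-- Transfer along isomorphisms. -/
theorem IsBC.transfer (u : H →ₗ[A] H₂) (hu : Function.Bijective u) (v : H' →ₗ[B] H₂') (hv : Function.Bijective v)
    (h : ∀ x, v (g x) = g₂ (u x)) : IsBC g ↔ IsBC g₂ := by
  have hl : Function.Bijective (u.lTensor B) := (LinearEquiv.lTensor B (LinearEquiv.ofBijective u hu)).bijective
  have e : ⇑v ∘ lift g = lift g₂ ∘ u.lTensor B := funext (lift_comp u v h)
  unfold IsBC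
  rw [← Function.Bijective.of_comp_iff' hv (lift g), e, Function.Bijective.of_comp_iff _ hl]

end Compat

theorem isBC_of_subsingleton (g : H →ₛₗ[algebraMap A B] H') [Subsingleton H] [Subsingleton H'] : IsBC g := by
  refine ⟨fun x y _ => ?_, fun y => ⟨0, Subsingleton.elim _ _⟩⟩
  have h : ∀ z : B ⊗[A] H, z = 0 := fun z => by
    induction z using TensorProduct.induction_on with
    | zero => rfl
    | tmul b x => rw [Subsingleton.elim x 0, TensorProduct.tmul_zero]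
    | add x y hx hy => rw [hx, hy, add_zero]
  rw [h x, h y]

section Total

variable {H₁ : Type w} [AddCommGroup H₁] [Module A H₁] {H₁' : Type w'} [AddCommGroup H₁'] [Module B H₁']
  {H₂ : Type w} [AddCommGroup H₂] [Module A H₂] {H₂' : Type w'} [AddCommGroup H₂'] [Module B H₂']
  {g : H →ₛₗ[algebraMap A B] H'} {g₁ : H₁ →ₛₗ[algebraMap A B] H₁'} {g₂ : H₂ →ₛₗ[algebraMap A B] H₂'}

/-- A direct summand of two base changes. -/
theorem IsBC.total (r₁ : H →ₗ[A] H₁) (s₁ : H₁ →ₗ[A] H) (r₂ : H →ₗ[A] H₂) (s₂ : H₂ →ₗ[A] H)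
    (hsum : s₁ ∘ₗ r₁ + s₂ ∘ₗ r₂ = LinearMap.id) (r₁' : H' →ₗ[B] H₁') (s₁' : H₁' →ₗ[B] H')
    (r₂' : H' →ₗ[B] H₂') (s₂' : H₂' →ₗ[B] H') (hsum' : ∀ y, s₁' (r₁' y) + s₂' (r₂' y) = y)
    (hr₁ : ∀ x, r₁' (g x) = g₁ (r₁ x)) (hs₁ : ∀ x, s₁' (g₁ x) = g (s₁ x))
    (hr₂ : ∀ x, r₂' (g x) = g₂ (r₂ x)) (hs₂ : ∀ x, s₂' (g₂ x) = g (s₂ x))
    (h₁ : IsBC g₁) (h₂ : IsBC g₂) : IsBC g := by
  refine ⟨(injective_iff_map_eq_zero _).2 fun z hz => ?_, fun y => ?_⟩
  · have e1 : r₁.lTensor B z = 0 := h₁.1 (by rw [← lift_comp r₁ r₁' hr₁, hz, map_zero, map_zero])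
    have e2 : r₂.lTensor B z = 0 := h₂.1 (by rw [← lift_comp r₂ r₂' hr₂, hz, map_zero, map_zero])
    have e := LinearMap.congr_fun (congrArg (LinearMap.lTensor B) hsum) z
    rw [LinearMap.lTensor_add, LinearMap.lTensor_comp, LinearMap.lTensor_comp, LinearMap.lTensor_id,
      LinearMap.add_apply, LinearMap.comp_apply, LinearMap.comp_apply, e1, e2, map_zero, map_zero, add_zero] at e
    exact e.symm
  · obtain ⟨z₁, hz₁⟩ := h₁.2 (r₁' y)
    obtain ⟨z₂, hz₂⟩ := h₂.2 (r₂' y)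
    refine ⟨s₁.lTensor B z₁ + s₂.lTensor B z₂, ?_⟩
    rw [map_add, ← lift_comp s₁ s₁' hs₁, ← lift_comp s₂ s₂' hs₂, hz₁, hz₂, hsum']

end Total

section Five

variable [Module.Flat A B]
variable {M₁ M₂ M₃ M₄ M₅ : Type v} [AddCommGroup M₁] [Module A M₁] [AddCommGroup M₂] [Module A M₂]
  [AddCommGroup M₃] [Module A M₃] [AddCommGroup M₄] [Module A M₄] [AddCommGroup M₅] [Module A M₅]
variable {N₁ N₂ N₃ N₄ N₅ : Type v'} [AddCommGroup N₁] [Module B N₁] [AddCommGroup N₂] [Module B N₂]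
  [AddCommGroup N₃] [Module B N₃] [AddCommGroup N₄] [Module B N₄] [AddCommGroup N₅] [Module B N₅]

/-- The five lemma for base changes along a flat map. -/
theorem IsBC.five (f₁ : M₁ →ₗ[A] M₂) (f₂ : M₂ →ₗ[A] M₃) (f₃ : M₃ →ₗ[A] M₄) (f₄ : M₄ →ₗ[A] M₅)
    (k₁ : N₁ →ₗ[B] N₂) (k₂ : N₂ →ₗ[B] N₃) (k₃ : N₃ →ₗ[B] N₄) (k₄ : N₄ →ₗ[B] N₅)
    {g₁ : M₁ →ₛₗ[algebraMap A B] N₁} {g₂ : M₂ →ₛₗ[algebraMap A B] N₂} {g₃ : M₃ →ₛₗ[algebraMap A B] N₃}
    {g₄ : M₄ →ₛₗ[algebraMap A B] N₄} {g₅ : M₅ →ₛₗ[algebraMap A B] N₅}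
    (hf₁ : Function.Exact f₁ f₂) (hf₂ : Function.Exact f₂ f₃) (hf₃ : Function.Exact f₃ f₄)
    (hk₁ : Function.Exact k₁ k₂) (hk₂ : Function.Exact k₂ k₃) (hk₃ : Function.Exact k₃ k₄)
    (c₁ : ∀ x, k₁ (g₁ x) = g₂ (f₁ x)) (c₂ : ∀ x, k₂ (g₂ x) = g₃ (f₂ x))
    (c₃ : ∀ x, k₃ (g₃ x) = g₄ (f₃ x)) (c₄ : ∀ x, k₄ (g₄ x) = g₅ (f₄ x))
    (h₁ : IsBC g₁) (h₂ : IsBC g₂) (h₄ : IsBC g₄) (h₅ : IsBC g₅) : IsBC g₃ :=
  AddMonoidHom.bijective_of_surjective_of_bijective_of_bijective_of_injective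
    (f₁.lTensor B).toAddMonoidHom (f₂.lTensor B).toAddMonoidHom (f₃.lTensor B).toAddMonoidHom
    (f₄.lTensor B).toAddMonoidHom k₁.toAddMonoidHom k₂.toAddMonoidHom k₃.toAddMonoidHom k₄.toAddMonoidHom
    (lift g₁) (lift g₂) (lift g₃) (lift g₄) (lift g₅)
    (AddMonoidHom.ext fun z => (lift_comp f₁ k₁ c₁ z)) (AddMonoidHom.ext fun z => (lift_comp f₂ k₂ c₂ z))
    (AddMonoidHom.ext fun z => (lift_comp f₃ k₃ c₃ z)) (AddMonoidHom.ext fun z => (lift_comp f₄ k₄ c₄ z))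
    (Module.Flat.lTensor_exact B hf₁) (Module.Flat.lTensor_exact B hf₂) (Module.Flat.lTensor_exact B hf₃)
    hk₁ hk₂ hk₃ h₁.2 h₂ h₄ h₅.1

end Five

end GrothLib.HomBC22
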